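import Cfsg.Agent.S4493
import Cfsg.Agent.Lib.Char.FixedConstituent
import Cfsg.Agent.Lib.Clifford.CoprimeExtension
import Mathlib.GroupTheory.FiniteAbelian.Duality

/-!
# Degrees above a linear character with an extension to its inertia group

`HasDeg G n`: some degree of `G` is divisible by `n`. If `θ` extends to its inertia group `T` and
`d ∣ [G : T] θ(1)` while no degree is divisible by `d p`, then `T / N` contains a Sylow `p`-subgroup
of `G / N` as a normal abelian subgroup.
-/

set_option autoImplicit false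
set_option linter.style.haveILetI false
set_option linter.unusedSectionVars false

namespace Cfsg.Agent.ThreePrimes

open Cfsg.Agent.Char Subgroup

universe u

variable {G : Type u} [Group G] [Finite G]

/-- Some irreducible degree is divisible by `n`. -/
def HasDeg (G : Type u) [Group G] (n : ℕ) : Prop := ∃ χ : IrrCharacter G, n ∣ degree χ

theorem degree_eq_of_apply_one {H : Type*} [Group H] {χ : IrrCharacter H} {n : ℕ}
    (h : χ.1 1 = n) : degree χ = n := by
  rw [apply_one_eq_degree] at h
  exact_mod_cast h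

theorem HasDeg.of_quotient (N : Subgroup G) [N.Normal] {n : ℕ} (h : HasDeg (G ⧸ N) n) :
    HasDeg G n := by
  obtain ⟨χ, hχ⟩ := h
  refine ⟨inflate N χ, ?_⟩
  rwa [degree_eq_of_apply_one (n := degree χ)
    (by rw [inflate_apply, QuotientGroup.mk_one, apply_one_eq_degree])]

theorem HasDeg.mono {m n : ℕ} (h : HasDeg G n) (hmn : m ∣ n) : HasDeg G m :=
  h.imp fun _ hχ => hmn.trans hχ

theorem exists_index_inertia_dvd (N : Subgroup G) [N.Normal] (θ : IrrCharacter N) :
    HasDeg G ((inertia N θ.1).index * degree θ) := by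
  classical
  haveI := Fintype.ofFinite G
  haveI := Fintype.ofFinite N
  obtain ⟨χ, hχ⟩ : ∃ χ : IrrCharacter G, classInner (indFun N θ.1) χ.1 ≠ 0 := by
    by_contra! h
    have h0 := eq_zero_of_classInner_irr (isClassFunction_indFun N θ.1) h
    have h1 := indFun_apply_one N θ.1
    rw [h0, Pi.zero_apply, eq_comm, mul_eq_zero] at h1
    rcases h1 with h1 | h1
    · exact Subgroup.index_ne_zero_of_finite (Nat.cast_eq_zero.1 h1)
    · exact IsIrrCharacter.apply_one_ne_zero θ.2 h1
  refine ⟨χ, ?_⟩
  rw [classInner_indFun N θ.1 (IsCharacter.isClassFunction (irr_isCharacter χ))] at hχ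
  obtain ⟨e, he⟩ := IsCharacter.exists_nat_classInner
    (IsCharacter.restrict (irr_isCharacter χ) N) (irr_isCharacter θ)
  have he' : classInner (resFun N χ.1) θ.1 = (e : ℂ) := he
  have hne : classInner (resFun N χ.1) θ.1 ≠ 0 := fun h => hχ (by
    rw [← conj_classInner]
    exact (congrArg _ h).trans (map_zero _))
  have h := apply_one_eq_mul_card_orbit N χ θ hne
  rw [he', apply_one_eq_degree, apply_one_eq_degree, ← Nat.cast_mul, ← Nat.cast_mul,
    Nat.cast_inj] at h
  rw [index_inertia N θ, h]
  exact dvd_mul_left _ _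

theorem exists_degree_of_extension (N : Subgroup G) [N.Normal] (θ : IrrCharacter N)
    [(N.subgroupOf (inertia N θ.1)).Normal]
    (ψ : IrrCharacter (inertia N θ.1))
    (hext : ∀ n : N, ψ.1 ⟨n, irr_le_inertia N θ n.2⟩ = θ.1 n)
    (β : IrrCharacter (inertia N θ.1 ⧸ N.subgroupOf (inertia N θ.1))) :
    ∃ χ : IrrCharacter G, degree χ = (inertia N θ.1).index * (degree θ * degree β) := by
  classical
  haveI := Fintype.ofFinite G
  haveI := Fintype.ofFinite N
  haveI := Fintype.ofFinite (inertia N θ.1)
  haveI := Fintype.ofFinite (N.subgroupOf (inertia N θ.1))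
  have hNT : N ≤ (inertia N θ.1) := irr_le_inertia N θ
  let e : ↥(N.subgroupOf (inertia N θ.1)) ≃* ↥N := Subgroup.subgroupOfEquivOfLe hNT
  have hres : IsIrrCharacter (N.subgroupOf (inertia N θ.1)) (resFun (N.subgroupOf (inertia N θ.1)) ψ.1) := by
    have : resFun (N.subgroupOf (inertia N θ.1)) ψ.1 = fun x => θ.1 (e x) := funext fun x => by
      rw [resFun_apply, ← hext (e x)]
      rfl
    rw [this]
    exact IsIrrCharacter.comp_surjective θ.2 e.toMonoidHom e.surjective
  let η : IrrCharacter (inertia N θ.1) := ⟨_, isIrrCharacter_mulQuotient (N.subgroupOf (inertia N θ.1)) ψ hres β⟩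
  have hη : resIncl N hNT η.1 = (degree β : ℂ) • θ.1 := funext fun n => by
    rw [resIncl_apply, Pi.smul_apply, smul_eq_mul]
    show ψ.1 (Subgroup.inclusion hNT n) * β.1 _ = _
    rw [(QuotientGroup.eq_one_iff (N := N.subgroupOf (inertia N θ.1)) (Subgroup.inclusion hNT n)).2
      (Subgroup.mem_subgroupOf.2 n.2), apply_one_eq_degree, mul_comm, ← hext n]
    rfl
  have hne : classInner (resIncl N hNT η.1) θ.1 ≠ 0 := by
    rw [hη, classInner_smul_left, classInner_irr_self θ.2, mul_one]
    exact Nat.cast_ne_zero.2 (degree_pos β).ne'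
  refine ⟨cliffordInduce N θ ⟨η, hne⟩, degree_eq_of_apply_one ?_⟩
  rw [cliffordInduce_apply_one]
  show ((inertia N θ.1).index : ℂ) * (ψ.1 1 * β.1 _) = _
  rw [QuotientGroup.mk_one, apply_one_eq_degree β, show (1 : (inertia N θ.1)) = ⟨((1 : N) : G), hNT (one_mem N)⟩
    from Subtype.ext (by simp), hext 1, apply_one_eq_degree θ]
  push_cast
  rfl

/-- If `θ` extends to its inertia group `T`, `d ∣ [G : T] θ(1)` and no degree is divisible by
`d * p`, then `T / N` has a normal abelian Sylow `p`-subgroup, full in `G / N`. -/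
theorem exists_sylow_quotient (hsolv : Group.IsSolvable G) {p d : ℕ} [hp : Fact p.Prime]
    (N : Subgroup G) [N.Normal] (θ : IrrCharacter N) (ψ : IrrCharacter (inertia N θ.1))
    (hext : ∀ n : N, ψ.1 ⟨n, irr_le_inertia N θ n.2⟩ = θ.1 n)
    (hd : d ∣ (inertia N θ.1).index * degree θ) (hcop : d.Coprime p) (hno : ¬ HasDeg G (d * p)) :
    ∃ P : Sylow p (G ⧸ N), (P : Subgroup (G ⧸ N)) ≤ (inertia N θ.1).map (QuotientGroup.mk' N) ∧
      (inertia N θ.1).map (QuotientGroup.mk' N) ≤ normalizer ((P : Subgroup (G ⧸ N)) : Set (G ⧸ N)) ∧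
      IsMulCommutative (P : Subgroup (G ⧸ N)) := by
  classical
  have hNT : N ≤ (inertia N θ.1) := irr_le_inertia N θ
  haveI : (N.subgroupOf (inertia N θ.1)).Normal := Subgroup.normal_subgroupOf
  have key : ∀ β : IrrCharacter ((inertia N θ.1) ⧸ N.subgroupOf (inertia N θ.1)), ¬ p ∣ (inertia N θ.1).index * (degree θ * degree β) := by
    intro β h
    obtain ⟨χ, hχ⟩ := exists_degree_of_extension N θ ψ hext β
    refine hno ⟨χ, ?_⟩
    rw [hχ]
    refine hcop.mul_dvd_of_dvd_of_dvd ?_ h
    rw [← mul_assoc]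
    exact hd.mul_right _
  have hidx : ¬ p ∣ (inertia N θ.1).index := fun h => key (trivialChar _) (h.mul_right _)
  haveI := hsolv
  obtain ⟨Q, hQn, hQab, hQp, hQi⟩ :=
    (S4493.result (inferInstance : Group.IsSolvable ((inertia N θ.1) ⧸ N.subgroupOf (inertia N θ.1))) p hp.out).2 fun β h => by
      rw [charDegree_eq_degree] at h
      exact key β ((h.mul_left _).mul_left _)
  let f : (inertia N θ.1) ⧸ N.subgroupOf (inertia N θ.1) →* G ⧸ N :=
    QuotientGroup.map (N.subgroupOf (inertia N θ.1)) N (inertia N θ.1).subtype (fun x hx => hx)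
  have hf : Function.Injective f := by
    rw [← MonoidHom.ker_eq_bot_iff, eq_bot_iff]
    intro x hx
    induction x using QuotientGroup.induction_on with
    | H x =>
      rw [MonoidHom.mem_ker] at hx
      rw [Subgroup.mem_bot, QuotientGroup.eq_one_iff, Subgroup.mem_subgroupOf]
      exact (QuotientGroup.eq_one_iff (N := N) (x : G)).1 hx
  have hrange : f.range = (inertia N θ.1).map (QuotientGroup.mk' N) := by
    ext y
    constructor
    · rintro ⟨x, rfl⟩
      induction x using QuotientGroup.induction_on with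
      | H x => exact Subgroup.mem_map_of_mem _ x.2
    · rintro ⟨x, hx, rfl⟩
      exact ⟨((⟨x, hx⟩ : (inertia N θ.1)) : (inertia N θ.1) ⧸ N.subgroupOf (inertia N θ.1)), rfl⟩
  have hPi : ¬ p ∣ (Q.map f).index := by
    rw [Subgroup.index_map_of_injective _ hf, hrange, Subgroup.index_map_eq (inertia N θ.1)
      (QuotientGroup.mk'_surjective N) (by rwa [QuotientGroup.ker_mk'])]
    exact fun h => (hp.out.dvd_mul.1 h).elim hQi hidx
  refine ⟨(hQp.map f).toSylow hPi, ?_, ?_, ?_⟩
  · show Q.map f ≤ _
    exact hrange ▸ Subgroup.map_le_range f Q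
  · show _ ≤ normalizer ((Q.map f : Subgroup (G ⧸ N)) : Set (G ⧸ N))
    rw [← hrange, MonoidHom.range_eq_map]
    exact (Subgroup.map_mono (Subgroup.normalizer_eq_top_iff.2 hQn).ge).trans
      (Subgroup.le_normalizer_map f)
  · show IsMulCommutative (Q.map f)
    haveI : IsMulCommutative Q := ⟨⟨fun a b => Subtype.ext (hQab a a.2 b b.2)⟩⟩
    infer_instance

/-- In the coprime case an irreducible character extends to its inertia group. -/
theorem exists_extension_of_coprime (N : Subgroup G) [N.Normal] (θ : IrrCharacter N)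
    (hco : N.index.Coprime (Nat.card N)) :
    ∃ ψ : IrrCharacter (inertia N θ.1), ∀ n : N, ψ.1 ⟨n, irr_le_inertia N θ n.2⟩ = θ.1 n := by
  classical
  have hNT : N ≤ (inertia N θ.1) := irr_le_inertia N θ
  haveI : (N.subgroupOf (inertia N θ.1)).Normal := Subgroup.normal_subgroupOf
  let e : ↥(N.subgroupOf (inertia N θ.1)) ≃* ↥N := Subgroup.subgroupOfEquivOfLe hNT
  let θ' : IrrCharacter (N.subgroupOf (inertia N θ.1)) :=
    ⟨fun x => θ.1 (e x), IsIrrCharacter.comp_surjective θ.2 e.toMonoidHom e.surjective⟩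
  have hinv : ∀ g : (inertia N θ.1), conjFun (N.subgroupOf (inertia N θ.1)) θ'.1 g = θ'.1 := fun g => funext fun x => by
    refine Eq.trans ?_ (congrFun ((mem_inertia N).1 g.2) (e x))
    exact congrArg θ.1 (Subtype.ext (by simp [e, Subgroup.subgroupOfEquivOfLe]))
  have hco' : (N.subgroupOf (inertia N θ.1)).index.Coprime (Nat.card (N.subgroupOf (inertia N θ.1))) := by
    rw [Nat.card_congr e.toEquiv]
    exact hco.coprime_dvd_left (Subgroup.relIndex_dvd_index_of_le hNT)
  haveI := Fintype.ofFinite (inertia N θ.1)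
  obtain ⟨ψ, ⟨hψ, -⟩, -⟩ := Clifford.existsUnique_extension_of_coprime_card θ' hinv hco'
  refine ⟨ψ, fun n => ?_⟩
  have h := hψ (e.symm n)
  refine Eq.trans ?_ (h.trans (congrArg θ.1 (e.apply_symm_apply n)))
  exact congrArg ψ.1 (Subtype.ext rfl)

/-! ### Dual groups -/

/-- Conjugation on the linear characters of a normal subgroup. -/
def conjDual (K : Subgroup G) [K.Normal] : G →* MulAut (K →* ℂˣ) where
  toFun g :=
    { toFun := fun f => f.comp (MulAut.conjNormal g⁻¹).toMonoidHom
      invFun := fun f => f.comp (MulAut.conjNormal g).toMonoidHom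
      left_inv := fun f => MonoidHom.ext fun x => congrArg f (Subtype.ext (by simp))
      right_inv := fun f => MonoidHom.ext fun x => congrArg f (Subtype.ext (by simp))
      map_mul' := fun f f' => MonoidHom.ext fun x => rfl }
  map_one' := MulEquiv.ext fun f => MonoidHom.ext fun x => congrArg f (Subtype.ext (by simp))
  map_mul' a b := MulEquiv.ext fun f => MonoidHom.ext fun x =>
    congrArg f (Subtype.ext (by simp))

theorem conjDual_apply (K : Subgroup G) [K.Normal] (g : G) (f : K →* ℂˣ) (x : K) :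
    conjDual K g f x = f (MulAut.conjNormal g⁻¹ x) := rfl

theorem conjDual_eq_self_iff (K : Subgroup G) [K.Normal] (g : G) (f : K →* ℂˣ) :
    conjDual K g f = f ↔ ∀ x : K, f (MulAut.conjNormal g x) = f x := by
  constructor
  · intro h x
    conv_lhs => rw [← h]
    rw [conjDual_apply]
    exact congrArg f (Subtype.ext (by simp))
  · intro h
    ext x
    rw [conjDual_apply, ← h (MulAut.conjNormal g⁻¹ x)]
    exact congrArg (fun y => ((f y : ℂˣ) : ℂ)) (Subtype.ext (by simp))

/-- A linear character as an irreducible one. -/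
noncomputable def linC {K : Type*} [Group K] (f : K →* ℂˣ) : IrrCharacter K :=
  linIrr ((Units.coeHom ℂ).comp f)

@[simp] theorem linC_apply {K : Type*} [Group K] (f : K →* ℂˣ) (x : K) :
    (linC f).1 x = (f x : ℂ) := rfl

theorem degree_linC {K : Type*} [Group K] (f : K →* ℂˣ) : degree (linC f) = 1 :=
  degree_eq_of_apply_one (by simp)

theorem mem_inertia_linC (K : Subgroup G) [K.Normal] (g : G) (f : K →* ℂˣ) :
    g ∈ inertia K (linC f).1 ↔ conjDual K g f = f := by
  rw [conjDual_eq_self_iff, mem_inertia, funext_iff]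
  exact forall_congr' fun x => ⟨fun h => Units.ext h, fun h => congrArg Units.val h⟩

theorem mem_commutator_of_forall {K : Type*} [Group K] [Finite K] {x : K}
    (h : ∀ f : K →* ℂˣ, f x = 1) : x ∈ commutator K := by
  by_contra hx
  obtain ⟨f, hf⟩ := CommGroup.exists_apply_ne_one_of_hasEnoughRootsOfUnity (Abelianization K) ℂ
    (a := Abelianization.of x) (fun h1 => hx ((QuotientGroup.eq_one_iff x).1 h1))
  exact hf (h (f.comp Abelianization.of))

theorem eq_one_of_forall {K : Subgroup G} [IsMulCommutative K] {x : G} (hx : x ∈ K)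
    (h : ∀ f : K →* ℂˣ, f ⟨x, hx⟩ = 1) : x = 1 := by
  have := mem_commutator_of_forall h
  rw [commutator_def, Subgroup.commutator_eq_bot_iff_le_centralizer.2 (fun a _ =>
    Subgroup.mem_centralizer_iff.2 fun b _ => mul_comm' b a), Subgroup.mem_bot] at this
  exact congrArg Subtype.val this

instance finite_dual {K : Type u} [Group K] [Finite K] : Finite (K →* ℂˣ) := by
  refine Nat.finite_of_card_ne_zero ?_
  rw [Nat.card_congr (homUnitsEquiv K), card_monoidHom_complex]
  exact Subgroup.index_ne_zero_of_finite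

theorem nontrivial_dual (K : Subgroup G) [IsMulCommutative K] (hK : K ≠ ⊥) :
    Nontrivial (K →* ℂˣ) := by
  obtain ⟨x, hx, hx1⟩ : ∃ x ∈ K, x ≠ 1 := by
    by_contra! h
    exact hK ((Subgroup.eq_bot_iff_forall _).2 h)
  by_contra hn
  haveI := not_nontrivial_iff_subsingleton.1 hn
  exact hx1 (eq_one_of_forall hx fun f => by rw [Subsingleton.elim f 1, MonoidHom.one_apply])

end Cfsg.Agent.ThreePrimes
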