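import Cfsg.Agent.Lib.ThreePrimes.Good
import Cfsg.Agent.Lib.ThreePrimes.Chars

/-!
# Normal Sylow subgroups of quotients and character degrees
-/

set_option autoImplicit false
set_option linter.style.haveILetI false
set_option linter.unusedSectionVars false

namespace Cfsg.Agent.ThreePrimes

open Cfsg.Agent.Char Subgroup

universe u

variable {G : Type u} [Group G] [Finite G] {p : ℕ}

theorem not_hasDeg_of_comm (A : Subgroup G) [A.Normal] [IsMulCommutative A] (hA : ¬ p ∣ A.index) :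
    ¬ HasDeg G p := by
  rintro ⟨χ, hχ⟩
  haveI := Fintype.ofFinite G
  exact hA (hχ.trans (degree_dvd_index_of_comm A (fun a ha b hb =>
    congrArg Subtype.val (mul_comm' (⟨a, ha⟩ : A) ⟨b, hb⟩)) χ))

theorem exists_sylow_of_not_hasDeg (hs : Group.IsSolvable G) [hp : Fact p.Prime] (h : ¬ HasDeg G p) :
    ∃ P : Sylow p G, (P : Subgroup G).Normal ∧ IsMulCommutative (P : Subgroup G) := by
  haveI := Fintype.ofFinite G
  obtain ⟨A, hAn, hab, hAp, hAi⟩ := (S4493.result hs p hp.out).2 fun χ hχ =>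
    h ⟨χ, by rwa [charDegree_eq_degree] at hχ⟩
  exact ⟨hAp.toSylow hAi, hAn, ⟨⟨fun a b => Subtype.ext (hab a a.2 b b.2)⟩⟩⟩

theorem eq_of_normal [Fact p.Prime] (P Q : Sylow p G) (hP : (P : Subgroup G).Normal) : Q = P :=
  eq_of_le_normalizer P Q (by rw [Subgroup.normalizer_eq_top_iff.2 hP]; exact le_top)

theorem comap_eq_sup [Fact p.Prime] (N : Subgroup G) [N.Normal] (P₀ : Sylow p G) (P : Sylow p (G ⧸ N))
    (hP : (P : Subgroup (G ⧸ N)).Normal) :
    (P : Subgroup (G ⧸ N)).comap (QuotientGroup.mk' N) = (P₀ : Subgroup G) ⊔ N := by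
  rw [← eq_of_normal P (P₀.mapSurjective (QuotientGroup.mk'_surjective N)) hP,
    Sylow.coe_mapSurjective, Subgroup.comap_map_eq, QuotientGroup.ker_mk']

/-- A normal Sylow subgroup lies in every subgroup of index prime to `p`. -/
theorem normal_sylow_le [hp : Fact p.Prime] (P : Sylow p G) (hP : (P : Subgroup G).Normal)
    {T : Subgroup G} (hT : ¬ p ∣ T.index) : (P : Subgroup G) ≤ T := by
  obtain ⟨Q⟩ : Nonempty (Sylow p T) := inferInstance
  have hi : ¬ p ∣ ((Q : Subgroup T).map T.subtype).index := by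
    rw [Subgroup.index_map_subtype]
    exact fun h => (hp.out.dvd_mul.1 h).elim Q.not_dvd_index hT
  have h := eq_of_normal P ((Q.2.map T.subtype).toSylow hi) hP
  rw [← h]
  exact Subgroup.map_subtype_le _

/-- A Sylow subgroup centralised by a normal `p'`-subgroup modulo which it is normal abelian. -/
theorem not_hasDeg_of_centralized [Fact p.Prime] (N : Subgroup G) [N.Normal] (P₀ : Sylow p G)
    (P : Sylow p (G ⧸ N)) (hP : (P : Subgroup (G ⧸ N)).Normal)
    (hab : IsMulCommutative (P : Subgroup (G ⧸ N)))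
    (hdisj : Disjoint (P₀ : Subgroup G) N) (hcen : ∀ x ∈ (P₀ : Subgroup G), ∀ n ∈ N, x * n = n * x) :
    ¬ HasDeg G p := by
  have hmap : (P₀ : Subgroup G).map (QuotientGroup.mk' N) = P :=
    congrArg (fun S : Sylow p (G ⧸ N) => (S : Subgroup (G ⧸ N)))
      (eq_of_normal P (P₀.mapSurjective (QuotientGroup.mk'_surjective N)) hP)
  have hN : N ≤ normalizer ((P₀ : Subgroup G) : Set G) := by
    refine le_trans (fun n hn => ?_) (Subgroup.centralizer_le_normalizer ((P₀ : Subgroup G) : Set G))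
    exact Subgroup.mem_centralizer_iff.2 fun x hx => hcen x hx n hn
  haveI := normal_of_normal_map N P₀ hN (hmap ▸ hP)
  haveI : IsMulCommutative (P₀ : Subgroup G) := ⟨⟨fun a b => by
    have h1 : QuotientGroup.mk' N ((a : G) * b) = QuotientGroup.mk' N ((b : G) * a) := by
      rw [map_mul, map_mul]
      exact congrArg Subtype.val (mul_comm'
        (⟨_, hmap ▸ Subgroup.mem_map_of_mem _ a.2⟩ : (P : Subgroup (G ⧸ N)))
        ⟨_, hmap ▸ Subgroup.mem_map_of_mem _ b.2⟩)
    refine Subtype.ext (inv_mul_eq_one.1 ?_)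
    exact Subgroup.disjoint_def.1 hdisj (mul_mem (inv_mem (mul_mem a.2 b.2)) (mul_mem b.2 a.2))
      (QuotientGroup.eq.1 h1)⟩⟩
  exact not_hasDeg_of_comm _ P₀.not_dvd_index

/-- An element fixing all linear characters of a commutative subgroup centralises it. -/
theorem commute_of_forall_fixed (N : Subgroup G) [N.Normal] [IsMulCommutative N] {x : G}
    (h : ∀ f : N →* ℂˣ, conjDual N x f = f) {n : G} (hn : n ∈ N) : x * n = n * x := by
  have hmem : x * n * x⁻¹ * n⁻¹ ∈ N := mul_mem (‹N.Normal›.conj_mem n hn x) (inv_mem hn)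
  have h1 : x * n * x⁻¹ * n⁻¹ = 1 := eq_one_of_forall hmem fun f => by
    have h2 := (conjDual_eq_self_iff N x f).1 (h f) ⟨n, hn⟩
    rw [show (⟨_, hmem⟩ : N) = MulAut.conjNormal x ⟨n, hn⟩ * (⟨n, hn⟩ : N)⁻¹ from
      Subtype.ext (by simp), map_mul, map_inv, h2, mul_inv_cancel]
  exact mul_inv_eq_iff_eq_mul.1 (mul_inv_eq_one.1 h1)

theorem pow_eq_one_dual {K : Type*} [Group K] {l : ℕ} (h : ∀ x : K, x ^ l = 1) (f : K →* ℂˣ) :
    f ^ l = 1 := MonoidHom.ext fun x => by
  rw [MonoidHom.pow_apply, ← map_pow, h, map_one, MonoidHom.one_apply]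

end Cfsg.Agent.ThreePrimes
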