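import Cfsg.Agent.Lib.ThreePrimes.Module
import Cfsg.Agent.Lib.ThreePrimes.Common

/-!
# Three primes: a missing prime different from the characteristic of the minimal normal subgroup
-/

set_option autoImplicit false
set_option linter.style.haveILetI false
set_option linter.unusedSectionVars false

namespace Cfsg.Agent.ThreePrimes

open Cfsg.Agent.Char Subgroup
open scoped commutatorElement

universe u

/-- A linear character fixed by a group extends over a complement. -/
theorem exists_hom_extension {G : Type u} [Group G] [Finite G] (N H : Subgroup G) [N.Normal]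
    (hd : Disjoint N H) (hs : N ⊔ H = ⊤) (f : N →* ℂˣ) (T : Subgroup G) (hNT : N ≤ T)
    (hf : ∀ t ∈ T, conjDual N t f = f) :
    ∃ F : T →* ℂˣ, ∀ n : N, F ⟨n, hNT n.2⟩ = f n := by
  classical
  have hex : ∀ x : G, ∃ n : N, (n : G)⁻¹ * x ∈ H := fun x => by
    obtain ⟨n, hn, h, hh, rfl⟩ := Subgroup.mem_sup_of_normal_left.1
      (hs ▸ Subgroup.mem_top x : x ∈ N ⊔ H)
    exact ⟨⟨n, hn⟩, by rwa [inv_mul_cancel_left]⟩
  have huniq : ∀ (x : G) (a b : N), (a : G)⁻¹ * x ∈ H → (b : G)⁻¹ * x ∈ H → a = b := by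
    intro x a b ha hb
    refine inv_mul_eq_one.1 (Subtype.ext (Subgroup.disjoint_def.1 hd (a⁻¹ * b).2 ?_))
    have := mul_mem ha (inv_mem hb)
    simpa [mul_assoc] using this
  choose c hc using hex
  refine ⟨MonoidHom.mk' (fun t : T => f (c t)) fun s t => ?_, fun n => ?_⟩
  · have hh : ((c (s : G) : G))⁻¹ * (s : G) ∈ T := mul_mem (inv_mem (hNT (c (s : G)).2)) s.2
    have key : c ((s * t : T) : G) =
        c (s : G) * MulAut.conjNormal (((c (s : G) : G))⁻¹ * (s : G)) (c (t : G)) := by
      refine huniq _ _ _ (hc _) ?_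
      have h1 := mul_mem (hc (s : G)) (hc (t : G))
      simpa [mul_assoc] using h1
    show f (c ((s * t : T) : G)) = f (c (s : G)) * f (c (t : G))
    rw [key, map_mul, (conjDual_eq_self_iff N _ f).1 (hf _ hh)]
  · show f (c (n : G)) = f n
    rw [huniq (n : G) (c (n : G)) n (hc _) (by simp)]

variable {G : Type u} [Group G] [Finite G]

theorem case_one (hsolv : Group.IsSolvable G) {p q r l : ℕ} (hp : p.Prime) (hq : q.Prime)
    (hr : r.Prime) (hl : l.Prime) (hpq' : p ≠ q) (hqr' : q ≠ r) (hpr' : p ≠ r)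
    (N : Subgroup G) [N.Normal] [IsMulCommutative N] (hN : N ≠ ⊥)
    (hmin : ∀ M : Subgroup G, M.Normal → M ≤ N → M = ⊥ ∨ M = N)
    (he : ∀ x ∈ N, x ^ l = 1) (hrl : r ≠ l)
    (hdp : HasDeg G p) (hdq : HasDeg G q) (hdr : HasDeg G r)
    (hpq : ¬ HasDeg G (p * q)) (hrp : ¬ HasDeg G (r * p)) (hrq : ¬ HasDeg G (r * q))
    (hmiss : ¬ HasDeg (G ⧸ N) r) : False := by
  classical
  haveI := hsolv
  haveI := Fact.mk hr
  haveI := Fact.mk hl
  haveI : Fact q.Prime := ⟨hq⟩
  obtain ⟨R, hRn, hRab⟩ := exists_sylow_of_not_hasDeg (inferInstance : Group.IsSolvable (G ⧸ N)) hmiss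
  set R₀ : Sylow r G := default
  have hNl : IsPGroup l N := fun x => ⟨1, Subtype.ext (by
    rw [pow_one, SubmonoidClass.coe_pow]; exact he x x.2)⟩
  have hdisj : Disjoint (R₀ : Subgroup G) N := IsPGroup.disjoint_of_ne r l hrl _ _ R₀.2 hNl
  haveI hMn : ((R₀ : Subgroup G) ⊔ N).Normal := by
    rw [← comap_eq_sup N R₀ R hRn]; exact hRn.comap _
  set M := (R₀ : Subgroup G) ⊔ N with hMdef
  have hnotcen : ¬ ∀ x ∈ M, ∀ n ∈ N, x * n = n * x := fun h =>
    not_hasDeg_of_centralized N R₀ R hRn hRab hdisj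
      (fun x hx => h x (Subgroup.mem_sup_left hx)) hdr
  have hfix : ∀ f : N →* ℂˣ, (∀ x ∈ M, conjDual N x f = f) → f = 1 := by
    intro f hf
    rcases hmin ⁅M, N⁆ inferInstance (Subgroup.commutator_le_right M N) with h | h
    · refine absurd (fun x hx n hn => ?_) hnotcen
      exact commutatorElement_eq_one_iff_mul_comm.1
        (Subgroup.mem_bot.1 (h ▸ Subgroup.commutator_mem_commutator hx hn))
    · have hle : ⁅M, N⁆ ≤ f.ker.map N.subtype := by
        refine Subgroup.commutator_le.2 fun x hx n hn => ⟨MulAut.conjNormal x ⟨n, hn⟩ *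
          (⟨n, hn⟩ : N)⁻¹, ?_, by simp [commutatorElement_def]⟩
        show f _ = 1
        rw [map_mul, map_inv, (conjDual_eq_self_iff N x f).1 (hf x hx), mul_inv_cancel]
      ext n
      obtain ⟨m, hm, hmn⟩ := hle (show (n : G) ∈ ⁅M, N⁆ by rw [h]; exact n.2)
      obtain rfl : m = n := Subtype.ext hmn
      rw [show f m = 1 from hm]
      rfl
  set H := normalizer ((R₀ : Subgroup G) : Set G) with hHdef
  have hNH : Disjoint N H := by
    rw [Subgroup.disjoint_def]
    intro x hxN hxH
    rcases hmin (N ⊓ centralizer (M : Set G)) inferInstance inf_le_left with h | h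
    · refine Subgroup.mem_bot.1 (h ▸ ⟨hxN, ?_⟩)
      have hle : M ≤ centralizer ({x} : Set G) := by
        refine sup_le (fun y hy => ?_) fun y hy => ?_
        · refine Subgroup.mem_centralizer_singleton_iff.2 ?_
          have h1 : ⁅x, y⁆ ∈ N := by
            rw [commutatorElement_def, mul_assoc, mul_assoc]
            exact mul_mem hxN (by
              rw [← mul_assoc]; exact ‹N.Normal›.conj_mem _ (inv_mem hxN) y)
          have h2 : ⁅x, y⁆ ∈ (R₀ : Subgroup G) := by
            rw [commutatorElement_def]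
            exact mul_mem ((Subgroup.mem_normalizer_iff.1 hxH y).1 hy) (inv_mem hy)
          exact (commutatorElement_eq_one_iff_mul_comm.1 (Subgroup.disjoint_def.1 hdisj h2 h1)).symm
        · exact Subgroup.mem_centralizer_singleton_iff.2
            (congrArg Subtype.val (mul_comm' (⟨y, hy⟩ : N) ⟨x, hxN⟩))
      exact Subgroup.mem_centralizer_iff.2 fun y hy =>
        Subgroup.mem_centralizer_singleton_iff.1 (hle hy)
    · refine absurd (fun y hy n hn => ?_) hnotcen
      exact Subgroup.mem_centralizer_iff.1 ((h.symm ▸ hn : n ∈ N ⊓ centralizer (M : Set G))).2 y hy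
  have hsup : N ⊔ H = ⊤ := by
    have hR₀M : (R₀ : Subgroup G) ≤ M := le_sup_left
    have h := Sylow.normalizer_sup_eq_top (R₀.subtype hR₀M)
    rw [show (((R₀.subtype hR₀M : Sylow r M) : Subgroup M)).map M.subtype = (R₀ : Subgroup G) by
      rw [Sylow.coe_subtype, Subgroup.map_subgroupOf_eq_of_le hR₀M]] at h
    refine top_unique (h ▸ sup_le le_sup_right (sup_le ?_ le_sup_left))
    exact le_trans Subgroup.le_normalizer le_sup_right
  -- every stabiliser of a nontrivial linear character
  have hstab : ∀ s, s.Prime → s ≠ r → ¬ HasDeg G (r * s) → ∀ f : N →* ℂˣ, f ≠ 1 →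
      ∃ P : Sylow s (G ⧸ N),
        (P : Subgroup (G ⧸ N)) ≤ (inertia N (linC f).1).map (QuotientGroup.mk' N) ∧
        (inertia N (linC f).1).map (QuotientGroup.mk' N) ≤
          normalizer ((P : Subgroup (G ⧸ N)) : Set (G ⧸ N)) ∧
        IsMulCommutative (P : Subgroup (G ⧸ N)) := by
    intro s hs hsr hno f hf
    haveI := Fact.mk hs
    have hNT := irr_le_inertia N (linC f)
    have hr_idx : r ∣ (inertia N (linC f).1).index := by
      by_contra hni
      rw [← Subgroup.index_map_eq _ (QuotientGroup.mk'_surjective N)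
        (by rw [QuotientGroup.ker_mk']; exact hNT)] at hni
      have h := Subgroup.comap_mono (f := QuotientGroup.mk' N) (normal_sylow_le R hRn hni)
      rw [comap_eq_sup N R₀ R hRn, Subgroup.comap_map_eq, QuotientGroup.ker_mk',
        sup_eq_left.2 hNT] at h
      exact hf (hfix f fun x hx => (mem_inertia_linC N x f).1 (h hx))
    obtain ⟨F, hF⟩ := exists_hom_extension N H hNH hsup f _ hNT
      fun t ht => (mem_inertia_linC N t f).1 ht
    refine exists_sylow_quotient (d := r) hsolv N (linC f) (linC F) (fun n => ?_) ?_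
      ((Nat.coprime_primes hr hs).2 hsr.symm) hno
    · rw [linC_apply, linC_apply, hF]
    · rw [degree_linC, mul_one]; exact hr_idx
  have htriv : N ≤ (conjDual N).ker := fun x hx => by
    rw [MonoidHom.mem_ker]
    refine MulEquiv.ext fun f => (conjDual_eq_self_iff N x f).2 fun n => congrArg f (Subtype.ext ?_)
    rw [MulAut.conjNormal_apply, congrArg Subtype.val (mul_comm' (⟨x, hx⟩ : N) n) |> fun h =>
      (h : x * (n : G) = (n : G) * x), mul_inv_cancel_right]
  let φ : G ⧸ N →* MulAut (N →* ℂˣ) := QuotientGroup.lift N (conjDual N) htriv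
  have hgood : ∀ s, s.Prime → s ≠ r → ¬ HasDeg G (r * s) → Good (V := ↥N →* ℂˣ) s φ := by
    intro s hs hsr hno f hf
    obtain ⟨P, h1, h2, -⟩ := hstab s hs hsr hno f hf
    refine ⟨P, fun x hx => ?_, fun h hh => ?_⟩
    · obtain ⟨y, hy, rfl⟩ := h1 hx
      exact (mem_inertia_linC N y f).1 hy
    · induction h using QuotientGroup.induction_on with
      | H y => exact h2 ⟨y, (mem_inertia_linC N y f).2 hh, rfl⟩
  haveI := nontrivial_dual N hN
  obtain ⟨f₀, hf₀⟩ := exists_ne (1 : N →* ℂˣ)
  have hnn : ∀ s, s.Prime → s ≠ r → ¬ HasDeg G (r * s) → HasDeg G s →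
      ∀ P : Sylow s (G ⧸ N), ¬ (P : Subgroup (G ⧸ N)).Normal := by
    intro s hs hsr hno hds P hP
    haveI := Fact.mk hs
    have hab : IsMulCommutative (P : Subgroup (G ⧸ N)) := by
      obtain ⟨P', -, -, h3⟩ := hstab s hs hsr hno f₀ hf₀
      rwa [eq_of_normal P P' hP] at h3
    haveI hAn : ((P : Subgroup (G ⧸ N)).comap (QuotientGroup.mk' N)).Normal := hP.comap _
    set A := (P : Subgroup (G ⧸ N)).comap (QuotientGroup.mk' N) with hA
    have hcen : ∀ x ∈ A, ∀ n ∈ N, x * n = n * x := fun x hx n hn =>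
      commute_of_forall_fixed N (fun f => by
        rcases eq_or_ne f 1 with rfl | hf
        · exact map_one _
        · obtain ⟨P', h1, -, -⟩ := hstab s hs hsr hno f hf
          rw [eq_of_normal P P' hP] at h1
          have hx' := Subgroup.comap_mono (f := QuotientGroup.mk' N) h1 hx
          rw [Subgroup.comap_map_eq, QuotientGroup.ker_mk',
            sup_eq_left.2 (irr_le_inertia N (linC f))] at hx'
          exact (mem_inertia_linC N x f).1 hx') hn
    haveI : IsMulCommutative A := ⟨⟨fun a b => by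
      refine Subtype.ext ?_
      show (a : G) * b = b * a
      obtain ⟨n, hn, h, hh, hab'⟩ := Subgroup.mem_sup_of_normal_left.1
        (hsup ▸ Subgroup.mem_top (a : G) : (a : G) ∈ N ⊔ H)
      obtain ⟨m, hm, k, hk, hmk⟩ := Subgroup.mem_sup_of_normal_left.1
        (hsup ▸ Subgroup.mem_top (b : G) : (b : G) ∈ N ⊔ H)
      have hNA : N ≤ A := fun x hx => by
        rw [hA, Subgroup.mem_comap, QuotientGroup.mk'_apply, (QuotientGroup.eq_one_iff x).2 hx]
        exact one_mem _
      have hhA : h ∈ A := by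
        rw [show h = n⁻¹ * (a : G) by rw [← hab', inv_mul_cancel_left]]
        exact mul_mem (inv_mem (hNA hn)) a.2
      have hkA : k ∈ A := by
        rw [show k = m⁻¹ * (b : G) by rw [← hmk, inv_mul_cancel_left]]
        exact mul_mem (inv_mem (hNA hm)) b.2
      have h1 : h * k = k * h := by
        refine inv_mul_eq_one.1 (Subgroup.disjoint_def.1 hNH (QuotientGroup.eq.1 ?_) ?_)
        · have := congrArg Subtype.val
            (mul_comm' (⟨_, hhA⟩ : (P : Subgroup (G ⧸ N))) ⟨_, hkA⟩)
          exact this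
        · exact mul_mem (inv_mem (mul_mem hh hk)) (mul_mem hk hh)
      rw [← hab', ← hmk]
      have c1 : Commute h m := hcen h hhA m hm
      have c2 : Commute k n := hcen k hkA n hn
      have c3 : Commute n m := congrArg Subtype.val (mul_comm' (⟨n, hn⟩ : N) ⟨m, hm⟩)
      have c4 : Commute h k := h1
      exact ((c3.mul_left c1).mul_right (c2.symm.mul_left c4)).eq⟩⟩
    refine not_hasDeg_of_comm A ?_ hds
    rw [hA, Subgroup.index_comap_of_surjective _ (QuotientGroup.mk'_surjective N)]
    exact P.not_dvd_index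
  refine hpq (HasDeg.of_quotient N ?_)
  exact exists_degree_dvd hp hq hl hpq' (pow_eq_one_dual fun x : N => Subtype.ext (by
      rw [SubmonoidClass.coe_pow]; exact he x x.2))
    (hgood p hp hpr' hrp) (hgood q hq hqr' hrq) (hnn p hp hpr' hrp hdp) (hnn q hq hqr' hrq hdq)

end Cfsg.Agent.ThreePrimes
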