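import Cfsg.Agent.Lib.ThreePrimes.Module
import Cfsg.Agent.Lib.ThreePrimes.Common
import Cfsg.Agent.Lib.Char.InvariantAbove
import Cfsg.Agent.Lib.PGroup.Basic
import Cfsg.Agent.Lib.Coprime.Basic

/-!
# Three primes: the missing prime is the characteristic of the minimal normal subgroup

Here `R` is a normal Sylow `r`-subgroup with `⁅R, R⁆ = N` central in `R`.
-/

set_option autoImplicit false
set_option linter.style.haveILetI false
set_option linter.unusedSectionVars false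

namespace Cfsg.Agent.ThreePrimes

open Cfsg.Agent.Char Subgroup
open scoped commutatorElement

universe u

/-- An element whose commutator with `w` it centralises: that commutator has bounded order. -/
theorem pow_orderOf_eq_one_of_conj {X : Type*} [Group X] {x w v : X} (hcom : x * v = v * x)
    (h : x * w * x⁻¹ = v * w) : v ^ orderOf x = 1 := by
  have hk : ∀ k : ℕ, x ^ k * w * (x ^ k)⁻¹ = v ^ k * w := by
    intro k
    induction k with
    | zero => simp
    | succ k ih =>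
      have hc : x * v ^ k = v ^ k * x := (Commute.pow_right (hcom : Commute x v) k).eq
      rw [pow_succ' x k, mul_inv_rev,
        show x * x ^ k * w * ((x ^ k)⁻¹ * x⁻¹) = x * (x ^ k * w * (x ^ k)⁻¹) * x⁻¹ by group, ih,
        ← mul_assoc, hc, mul_assoc (v ^ k), mul_assoc (v ^ k), h, pow_succ, mul_assoc]
  have := hk (orderOf x)
  rw [pow_orderOf_eq_one, one_mul, inv_one, mul_one] at this
  exact right_eq_mul.1 this

/-- The situation of the second case. -/
structure Data (G : Type u) [Group G] (r : ℕ) (N R : Subgroup G) : Prop where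
  solv : Group.IsSolvable G
  prime : r.Prime
  le : N ≤ R
  comm : ⁅R, R⁆ = N
  central : ∀ n ∈ N, ∀ y ∈ R, n * y = y * n
  pgroup : IsPGroup r R
  cop : R.index.Coprime (Nat.card R)

namespace Data

variable {G : Type u} [Group G] [Finite G] {r : ℕ} {N R : Subgroup G} [hNn : N.Normal]
  [hRn : R.Normal]

theorem commutator_mem (d : Data G r N R) {x y : G} (hx : x ∈ R) (hy : y ∈ R) : ⁅x, y⁆ ∈ N :=
  d.comm ▸ Subgroup.commutator_mem_commutator hx hy

theorem isMulCommutative (d : Data G r N R) : IsMulCommutative N :=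
  ⟨⟨fun a b => Subtype.ext (d.central a a.2 b (d.le b.2))⟩⟩

theorem map_commutator_eq (d : Data G r N R) {x : R} (hx : x ∈ commutator R) : (x : G) ∈ N := by
  have h := Subgroup.mem_map_of_mem R.subtype hx
  rwa [map_subtype_commutator, d.comm] at h

theorem mem_commutator (d : Data G r N R) {n : G} (hn : n ∈ N) :
    (⟨n, d.le hn⟩ : R) ∈ commutator R := by
  have h : n ∈ (commutator R).map R.subtype := by rw [map_subtype_commutator, d.comm]; exact hn
  obtain ⟨m, hm, hmn⟩ := h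
  rwa [show (⟨n, d.le hn⟩ : R) = m from Subtype.ext hmn.symm]

theorem mem_of_forall_linear (d : Data G r N R) {x : G} (hx : x ∈ R)
    (h : ∀ f : R →* ℂˣ, f ⟨x, hx⟩ = 1) : x ∈ N :=
  d.map_commutator_eq (x := ⟨x, hx⟩) (mem_commutator_of_forall h)

theorem linear_apply_eq_one (d : Data G r N R) (f : R →* ℂˣ) {n : G} (hn : n ∈ N) :
    f ⟨n, d.le hn⟩ = 1 :=
  Abelianization.commutator_subset_ker f (d.mem_commutator hn)

theorem le_ker_conjDual_N (d : Data G r N R) : R ≤ (conjDual N).ker := fun x hx => by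
  rw [MonoidHom.mem_ker]
  refine MulEquiv.ext fun f => (conjDual_eq_self_iff N x f).2 fun n => congrArg f (Subtype.ext ?_)
  rw [MulAut.conjNormal_apply, ← d.central n n.2 x hx, mul_inv_cancel_right]

theorem le_ker_conjDual_R (_d : Data G r N R) : R ≤ (conjDual R).ker := fun x hx => by
  rw [MonoidHom.mem_ker]
  refine MulEquiv.ext fun f => (conjDual_eq_self_iff R x f).2 fun n => ?_
  rw [show MulAut.conjNormal x n = (⟨x, hx⟩ : R) * n * (⟨x, hx⟩ : R)⁻¹ from Subtype.ext (by simp),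
    map_mul, map_mul, map_inv, mul_inv_cancel_comm]

/-- A character of `R` above `μ`, fixed by the stabiliser of `μ`. -/
theorem exists_fixed_over (d : Data G r N R) (μ : N →* ℂˣ) :
    ∃ χ : IrrCharacter R, (∀ n : N, χ.1 ⟨n, d.le n.2⟩ = (degree χ : ℂ) * (μ n : ℂ)) ∧
      ∀ g : G, conjDual N g μ = μ → g ∈ inertia R χ.1 := by
  classical
  haveI := d.solv
  haveI := Fintype.ofFinite G
  haveI := Fintype.ofFinite N
  haveI := Fintype.ofFinite R
  let T : Subgroup G := inertia N (linC μ).1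
  have hRT : R ≤ T := fun x hx => (mem_inertia_linC N x μ).2 (by
    rw [MonoidHom.mem_ker.1 (d.le_ker_conjDual_N hx)]; rfl)
  have hNT : N ≤ T := d.le.trans hRT
  haveI := Fintype.ofFinite T
  haveI hR'n : (R.subgroupOf T).Normal := Subgroup.normal_subgroupOf
  haveI hN'n : (N.subgroupOf T).Normal := Subgroup.normal_subgroupOf
  haveI := Fintype.ofFinite (N.subgroupOf T)
  let eR : ↥(R.subgroupOf T) ≃* ↥R := Subgroup.subgroupOfEquivOfLe hRT
  let eN : ↥(N.subgroupOf T) ≃* ↥N := Subgroup.subgroupOfEquivOfLe hNT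
  have hNR' : N.subgroupOf T ≤ R.subgroupOf T := fun x hx => d.le hx
  have hcop : (R.subgroupOf T).index.Coprime ((N.subgroupOf T).relIndex (R.subgroupOf T)) := by
    rw [Subgroup.relIndex_subgroupOf hRT]
    exact ((d.cop.coprime_dvd_left (Subgroup.relIndex_dvd_index_of_le hRT)).coprime_dvd_right
      (Subgroup.index_dvd_card (N.subgroupOf R)))
  have hinv : ∀ g : T, conjFun (N.subgroupOf T) (linC (μ.comp eN.toMonoidHom)).1 g =
      (linC (μ.comp eN.toMonoidHom)).1 := fun g => funext fun x => by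
    refine Eq.trans ?_ (congrFun ((mem_inertia N).1 g.2) (eN x))
    exact congrArg (fun y => ((μ y : ℂˣ) : ℂ)) (Subtype.ext (by
      simp [eN, Subgroup.subgroupOfEquivOfLe]))
  obtain ⟨χ', hχ', hfix⟩ := exists_invariant_over (R.subgroupOf T) (N.subgroupOf T) hNR' hcop
    (Or.inl inferInstance) (linC (μ.comp eN.toMonoidHom)) hinv
  have hres := resIncl_eq_smul_of_invariant (N.subgroupOf T) hNR' _ (fun g _ => hinv g) χ' hχ'
  have hval : ∀ x : N.subgroupOf T, χ'.1 (Subgroup.inclusion hNR' x) =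
      classInner (resIncl (N.subgroupOf T) hNR' χ'.1) (linC (μ.comp eN.toMonoidHom)).1 *
        (μ (eN x) : ℂ) := fun x => by
    have := congrFun hres x
    simpa using this
  let χ : IrrCharacter R :=
    ⟨fun y => χ'.1 (eR.symm y), IsIrrCharacter.comp_mulEquiv χ'.2 eR.symm⟩
  have hχN : ∀ n : N, χ.1 ⟨n, d.le n.2⟩ =
      classInner (resIncl (N.subgroupOf T) hNR' χ'.1) (linC (μ.comp eN.toMonoidHom)).1 *
        (μ n : ℂ) := fun n => by
    refine Eq.trans ?_ ((hval (eN.symm n)).trans (by rw [MulEquiv.apply_symm_apply]))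
    exact congrArg χ'.1 (Subtype.ext (Subtype.ext rfl))
  refine ⟨χ, fun n => ?_, fun g hg => ?_⟩
  · have h1 := hχN 1
    rw [map_one, Units.val_one, mul_one,
      show (⟨((1 : N) : G), d.le (one_mem N)⟩ : R) = 1 from Subtype.ext (by simp),
      apply_one_eq_degree] at h1
    rw [hχN n, h1]
  · rw [mem_inertia]
    funext y
    have hgT : g ∈ T := (mem_inertia_linC N g μ).2 hg
    refine Eq.trans ?_ (congrFun (hfix ⟨g, hgT⟩) (eR.symm y))
    show χ'.1 _ = χ'.1 _
    exact congrArg χ'.1 (Subtype.ext (Subtype.ext (by simp [eR, Subgroup.subgroupOfEquivOfLe])))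

theorem degree_ne_one (d : Data G r N R) {μ : N →* ℂˣ} (hμ : μ ≠ 1) {χ : IrrCharacter R}
    (h : ∀ n : N, χ.1 ⟨n, d.le n.2⟩ = (degree χ : ℂ) * (μ n : ℂ)) : degree χ ≠ 1 := by
  intro h1
  refine hμ (MonoidHom.ext fun n => Units.ext ?_)
  obtain ⟨lam, hlam⟩ := IsCharacter.exists_monoidHom (irr_isCharacter χ)
    (by rw [apply_one_eq_degree, h1, Nat.cast_one])
  have h2 := h n
  rw [h1, Nat.cast_one, one_mul, ← hlam] at h2
  rw [← h2]
  have := congrArg Units.val (d.linear_apply_eq_one lam.toHomUnits n.2)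
  simpa using this

theorem inertia_le (d : Data G r N R) {μ : N →* ℂˣ} {χ : IrrCharacter R}
    (h : ∀ n : N, χ.1 ⟨n, d.le n.2⟩ = (degree χ : ℂ) * (μ n : ℂ)) {g : G}
    (hg : g ∈ inertia R χ.1) : conjDual N g μ = μ := by
  refine (conjDual_eq_self_iff N g μ).2 fun n => Units.ext ?_
  have h1 := congrFun ((mem_inertia R).1 hg) ⟨n, d.le n.2⟩
  have h2 : conjFun R χ.1 g ⟨n, d.le n.2⟩ =
      (degree χ : ℂ) * (μ (MulAut.conjNormal g n) : ℂ) := by
    rw [← h (MulAut.conjNormal g n)]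
    exact congrArg χ.1 (Subtype.ext (by simp))
  rw [h2, h n] at h1
  exact mul_left_cancel₀ (Nat.cast_ne_zero.2 (degree_pos χ).ne') h1

/-- The inertia group of a nonlinear character of `R`. -/
theorem exists_sylow_nonlinear (d : Data G r N R) {p : ℕ} [hp : Fact p.Prime] (hrp : r ≠ p)
    (hno : ¬ HasDeg G (r * p)) (χ : IrrCharacter R) (hχ : degree χ ≠ 1) :
    ∃ P : Sylow p (G ⧸ R), (P : Subgroup (G ⧸ R)) ≤ (inertia R χ.1).map (QuotientGroup.mk' R) ∧
      (inertia R χ.1).map (QuotientGroup.mk' R) ≤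
        normalizer ((P : Subgroup (G ⧸ R)) : Set (G ⧸ R)) ∧
      IsMulCommutative (P : Subgroup (G ⧸ R)) := by
  obtain ⟨ψ, hψ⟩ := exists_extension_of_coprime R χ d.cop
  refine exists_sylow_quotient (d := r) d.solv R χ ψ hψ (dvd_mul_of_dvd_right ?_ _)
    ((Nat.coprime_primes d.prime hp.out).2 hrp) hno
  obtain ⟨n, ρ, hρ, hρχ⟩ := χ.2
  have hd : degree χ = n := degree_eq_of_apply_one (by rw [← hρχ, Representation.char_one]; simp)
  haveI := hρ
  haveI := Fintype.ofFinite R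
  have hdvd : n ∣ Nat.card R := by
    have := CharInt.finrank_dvd_natCard ρ
    rwa [Module.finrank_fin_fun] at this
  haveI := Fact.mk d.prime
  obtain ⟨k, hk⟩ := IsPGroup.iff_card.1 d.pgroup
  rw [hk] at hdvd
  obtain ⟨i, -, hi⟩ := (Nat.dvd_prime_pow d.prime).1 hdvd
  rw [hd, hi]
  exact dvd_pow_self r fun h0 => hχ (by rw [hd, hi, h0, pow_zero])

set_option maxHeartbeats 800000 in
theorem good_dual (d : Data G r N R) {p : ℕ} [hp : Fact p.Prime] (hrp : r ≠ p)
    (hno : ¬ HasDeg G (r * p)) :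
    Good (V := ↥N →* ℂˣ) p (QuotientGroup.lift R (conjDual N) d.le_ker_conjDual_N) := by
  intro μ hμ
  obtain ⟨χ, hχ, hfix⟩ := d.exists_fixed_over μ
  obtain ⟨P, h1, h2, -⟩ := d.exists_sylow_nonlinear hrp hno χ (d.degree_ne_one hμ hχ)
  refine ⟨P, fun x hx => ?_, fun h hh => ?_⟩
  · obtain ⟨y, hy, rfl⟩ := h1 hx
    exact d.inertia_le hχ hy
  · induction h using QuotientGroup.induction_on with
    | H y => exact h2 ⟨y, hfix y hh, rfl⟩

section Normal

variable {p : ℕ} [hp : Fact p.Prime] (P : Sylow p (G ⧸ R))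

/-- The preimage of a normal Sylow subgroup lies in every inertia group of index prime to `p`. -/
theorem le_of_not_dvd (hP : (P : Subgroup (G ⧸ R)).Normal) {T : Subgroup G} (hRT : R ≤ T)
    (hT : ¬ p ∣ T.index) : (P : Subgroup (G ⧸ R)).comap (QuotientGroup.mk' R) ≤ T := by
  rw [← Subgroup.index_map_eq T (QuotientGroup.mk'_surjective R)
    (by rwa [QuotientGroup.ker_mk'])] at hT
  have h := Subgroup.comap_mono (f := QuotientGroup.mk' R) (normal_sylow_le P hP hT)
  rwa [Subgroup.comap_map_eq, QuotientGroup.ker_mk', sup_eq_left.2 hRT] at h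

theorem fixes_nonlinear (d : Data G r N R) (hrp : r ≠ p) (hno : ¬ HasDeg G (r * p))
    (hP : (P : Subgroup (G ⧸ R)).Normal) (χ : IrrCharacter R) (hχ : degree χ ≠ 1) :
    (P : Subgroup (G ⧸ R)).comap (QuotientGroup.mk' R) ≤ inertia R χ.1 := by
  obtain ⟨P', h1, -, -⟩ := d.exists_sylow_nonlinear hrp hno χ hχ
  rw [eq_of_normal P P' hP] at h1
  have h := Subgroup.comap_mono (f := QuotientGroup.mk' R) h1
  rwa [Subgroup.comap_map_eq, QuotientGroup.ker_mk', sup_eq_left.2 (irr_le_inertia R χ)] at h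

theorem fixes_N (d : Data G r N R) (hrp : r ≠ p) (hno : ¬ HasDeg G (r * p))
    (hP : (P : Subgroup (G ⧸ R)).Normal) {x : G}
    (hx : x ∈ (P : Subgroup (G ⧸ R)).comap (QuotientGroup.mk' R)) {n : G} (hn : n ∈ N) :
    x * n = n * x := by
  haveI := d.isMulCommutative
  refine commute_of_forall_fixed N (fun μ => ?_) hn
  rcases eq_or_ne μ 1 with rfl | hμ
  · exact map_one _
  · obtain ⟨χ, hχ, -⟩ := d.exists_fixed_over μ
    exact d.inertia_le hχ (d.fixes_nonlinear P hrp hno hP χ (d.degree_ne_one hμ hχ) hx)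

/-- A normal Sylow subgroup which moves nothing modulo `N` is impossible. -/
theorem false_of_centralizing (d : Data G r N R) (hN : N ≠ ⊥) (hrp : r ≠ p)
    (hno : ¬ HasDeg G (r * p)) (hdp : HasDeg G p) (hP : (P : Subgroup (G ⧸ R)).Normal)
    (P₀ : Sylow p G) (h : ∀ x ∈ (P₀ : Subgroup G), ∀ w ∈ R, ⁅x, w⁆ ∈ N) : False := by
  haveI := d.isMulCommutative
  haveI := Fact.mk d.prime
  haveI := nontrivial_dual N hN
  obtain ⟨μ, hμ⟩ := exists_ne (1 : ↥N →* ℂˣ)
  obtain ⟨χ, hχ, -⟩ := d.exists_fixed_over μ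
  obtain ⟨P', -, -, hab⟩ := d.exists_sylow_nonlinear hrp hno χ (d.degree_ne_one hμ hχ)
  rw [eq_of_normal P P' hP] at hab
  have hdisj : Disjoint (P₀ : Subgroup G) R :=
    IsPGroup.disjoint_of_ne p r hrp.symm _ _ P₀.2 d.pgroup
  have hmem : ∀ x ∈ (P₀ : Subgroup G), x ∈ (P : Subgroup (G ⧸ R)).comap (QuotientGroup.mk' R) :=
    fun x hx => by rw [comap_eq_sup R P₀ P hP]; exact Subgroup.mem_sup_left hx
  refine not_hasDeg_of_centralized R P₀ P hP hab hdisj (fun x hx w hw => ?_) hdp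
  have hv := h x hx w hw
  have hconj : x * w * x⁻¹ = ⁅x, w⁆ * w := by
    rw [commutatorElement_def, inv_mul_cancel_right]
  have h1 := pow_orderOf_eq_one_of_conj (d.fixes_N P hrp hno hP (hmem x hx) hv) hconj
  have hcop : (orderOf x).Coprime (Nat.card R) := by
    obtain ⟨k, hk⟩ := IsPGroup.iff_card.1 P₀.2
    obtain ⟨j, hj⟩ := IsPGroup.iff_card.1 d.pgroup
    refine Nat.Coprime.coprime_dvd_left (Subgroup.orderOf_dvd_natCard _ hx) ?_
    rw [hk, hj]
    exact Nat.Coprime.pow _ _ ((Nat.coprime_primes hp.out d.prime).2 hrp.symm)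
  have hone : ⁅x, w⁆ = 1 := by
    rw [← pow_one ⁅x, w⁆, ← hcop.gcd_eq_one]
    exact orderOf_dvd_iff_pow_eq_one.1 (Nat.dvd_gcd (orderOf_dvd_of_pow_eq_one h1)
      (Subgroup.orderOf_dvd_natCard R (d.le hv)))
  exact commutatorElement_eq_one_iff_mul_comm.1 hone

end Normal

theorem not_both_normal (d : Data G r N R) (hN : N ≠ ⊥) {p q : ℕ} [hp : Fact p.Prime]
    [hq : Fact q.Prime] (hpq' : p ≠ q) (hrp : r ≠ p) (hrq : r ≠ q) (hdp : HasDeg G p)
    (hdq : HasDeg G q) (hpq : ¬ HasDeg G (p * q)) (hnp : ¬ HasDeg G (r * p))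
    (hnq : ¬ HasDeg G (r * q)) (P : Sylow p (G ⧸ R)) (hP : (P : Subgroup (G ⧸ R)).Normal)
    (Q : Sylow q (G ⧸ R)) (hQ : (Q : Subgroup (G ⧸ R)).Normal) : False := by
  classical
  set A := (P : Subgroup (G ⧸ R)).comap (QuotientGroup.mk' R) with hA
  set B := (Q : Subgroup (G ⧸ R)).comap (QuotientGroup.mk' R) with hB
  have hor : ∀ f : R →* ℂˣ, f ∈ fixSub (V := ↥R →* ℂˣ) (conjDual R) A ∨ f ∈ fixSub (V := ↥R →* ℂˣ) (conjDual R) B := by
    intro f
    obtain ⟨χ, hχ⟩ := exists_index_inertia_dvd R (linC f)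
    rw [degree_linC, mul_one] at hχ
    by_cases h : p ∣ (inertia R (linC f).1).index
    · refine Or.inr fun x hx => (mem_inertia_linC R x f).1
        (le_of_not_dvd Q hQ (irr_le_inertia R (linC f)) (fun h' => hpq ⟨χ, ?_⟩) hx)
      exact ((Nat.coprime_primes hp.out hq.out).2 hpq').mul_dvd_of_dvd_of_dvd (h.trans hχ)
        (h'.trans hχ)
    · exact Or.inl fun x hx => (mem_inertia_linC R x f).1
        (le_of_not_dvd P hP (irr_le_inertia R (linC f)) h hx)
  have key : (∀ f, f ∈ fixSub (V := ↥R →* ℂˣ) (conjDual R) A) ∨ ∀ f, f ∈ fixSub (V := ↥R →* ℂˣ) (conjDual R) B := by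
    by_contra! hc
    obtain ⟨⟨a, ha⟩, b, hb⟩ := hc
    rcases hor (a * b) with h | h
    · exact ha ((Subgroup.mul_mem_cancel_right _ ((hor b).resolve_right hb)).1 h)
    · exact hb ((Subgroup.mul_mem_cancel_left _ ((hor a).resolve_left ha)).1 h)
  have hmem : ∀ {s : ℕ} [Fact s.Prime] (S : Sylow s (G ⧸ R)), (S : Subgroup (G ⧸ R)).Normal →
      ∀ S₀ : Sylow s G, (∀ f, f ∈ fixSub (V := ↥R →* ℂˣ) (conjDual R)
        ((S : Subgroup (G ⧸ R)).comap (QuotientGroup.mk' R))) →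
      ∀ x ∈ (S₀ : Subgroup G), ∀ w ∈ R, ⁅x, w⁆ ∈ N := by
    intro s _ S hS S₀ hall x hx w hw
    have hxA : x ∈ (S : Subgroup (G ⧸ R)).comap (QuotientGroup.mk' R) := by
      rw [comap_eq_sup R S₀ S hS]; exact Subgroup.mem_sup_left hx
    have hmemR : ⁅x, w⁆ ∈ R := mul_mem (hRn.conj_mem w hw x) (inv_mem hw)
    refine d.mem_of_forall_linear hmemR fun f => ?_
    rw [show (⟨⁅x, w⁆, hmemR⟩ : R) = MulAut.conjNormal x ⟨w, hw⟩ * (⟨w, hw⟩ : R)⁻¹ from
      Subtype.ext (by simp [commutatorElement_def]), map_mul, map_inv,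
      (conjDual_eq_self_iff R x f).1 (hall f x hxA), mul_inv_cancel]
  rcases key with h | h
  · exact d.false_of_centralizing P hN hrp hnp hdp hP default (hmem P hP default h)
  · exact d.false_of_centralizing Q hN hrq hnq hdq hQ default (hmem Q hQ default h)

theorem not_one_normal (d : Data G r N R) (hN : N ≠ ⊥) (he : ∀ x ∈ N, x ^ r = 1) {p q : ℕ}
    [hp : Fact p.Prime] [hq : Fact q.Prime] (hpq' : p ≠ q) (hrp : r ≠ p) (hrq : r ≠ q)
    (hdp : HasDeg G p) (hpq : ¬ HasDeg G (p * q)) (hnp : ¬ HasDeg G (r * p))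
    (hnq : ¬ HasDeg G (r * q)) (P : Sylow p (G ⧸ R)) (hP : (P : Subgroup (G ⧸ R)).Normal)
    (hQ : ∀ Q : Sylow q (G ⧸ R), ¬ (Q : Subgroup (G ⧸ R)).Normal) : False := by
  classical
  haveI := d.solv
  haveI := Fact.mk d.prime
  haveI := d.isMulCommutative
  haveI := nontrivial_dual N hN
  set P₀ : Sylow p G := default
  set M := (P : Subgroup (G ⧸ R)).comap (QuotientGroup.mk' R) with hMdef
  haveI hMn : M.Normal := hP.comap _
  have hP₀M : ∀ x ∈ (P₀ : Subgroup G), x ∈ M := fun x hx => by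
    rw [hMdef, comap_eq_sup R P₀ P hP]; exact Subgroup.mem_sup_left hx
  obtain ⟨x₁, hx₁, w₁, hw₁, hv₁⟩ : ∃ x ∈ (P₀ : Subgroup G), ∃ w ∈ R, ⁅x, w⁆ ∉ N := by
    by_contra! h
    exact d.false_of_centralizing P hN hrp hnp hdp hP P₀ h
  set R₀ : Subgroup G := R ⊓ (centralizer ((M.map (QuotientGroup.mk' N) : Subgroup (G ⧸ N)) :
      Set (G ⧸ N))).comap (QuotientGroup.mk' N) with hR₀
  haveI : (M.map (QuotientGroup.mk' N)).Normal := hMn.map _ (QuotientGroup.mk'_surjective N)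
  haveI hR₀n : R₀.Normal := inferInstance
  have hR₀R : R₀ ≤ R := inf_le_left
  have hR₀mem : ∀ y ∈ R₀, ∀ x ∈ M, ⁅x, y⁆ ∈ N := by
    intro y hy x hx
    rw [← QuotientGroup.eq_one_iff]
    show QuotientGroup.mk' N ⁅x, y⁆ = 1
    rw [map_commutatorElement]
    exact commutatorElement_eq_one_iff_mul_comm.2
      (Subgroup.mem_centralizer_iff.1 (Subgroup.mem_comap.1 hy.2) _ (Subgroup.mem_map_of_mem _ hx))
  have hR₀of : ∀ y ∈ R, (∀ x ∈ (P₀ : Subgroup G), ⁅x, y⁆ ∈ N) → y ∈ R₀ := by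
    intro y hy h
    refine ⟨hy, Subgroup.mem_comap.2 (Subgroup.mem_centralizer_iff.2 fun z hz => ?_)⟩
    have hle : M.map (QuotientGroup.mk' N) ≤ centralizer {QuotientGroup.mk' N y} := by
      rw [Subgroup.map_le_iff_le_comap, hMdef, comap_eq_sup R P₀ P hP]
      refine sup_le (fun x hx => ?_) fun x hx => ?_
      all_goals
        rw [Subgroup.mem_comap, Subgroup.mem_centralizer_singleton_iff]
        refine commutatorElement_eq_one_iff_mul_comm.1 ?_
        rw [← map_commutatorElement, QuotientGroup.mk'_apply, QuotientGroup.eq_one_iff]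
      · exact h x hx
      · exact d.commutator_mem hx hy
    exact Subgroup.mem_centralizer_singleton_iff.1 (hle hz)
  -- the linear characters of `R` trivial on `R₀`
  let W : Subgroup (↥R →* ℂˣ) :=
    { carrier := {f | ∀ y : R, (y : G) ∈ R₀ → f y = 1}
      one_mem' := fun _ _ => rfl
      mul_mem' := fun {a b} ha hb y hy => by
        rw [MonoidHom.mul_apply, ha y hy, hb y hy, one_mul]
      inv_mem' := fun {a} ha y hy => by rw [MonoidHom.inv_apply, ha y hy, inv_one] }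
  let φR : G ⧸ R →* MulAut (↥R →* ℂˣ) := QuotientGroup.lift R (conjDual R) d.le_ker_conjDual_R
  have hW : ∀ h, ∀ f ∈ W, φR h f ∈ W := fun h f hf => by
    induction h using QuotientGroup.induction_on with
    | H g =>
      intro y hy
      refine hf _ ?_
      show ((MulAut.conjNormal g⁻¹ y : R) : G) ∈ R₀
      rw [MulAut.conjNormal_apply]
      exact hR₀n.conj_mem _ hy _
  have hfree : ∀ f ∈ W, (∀ x ∈ M, conjDual R x f = f) → f = 1 := by
    intro f hf hfix
    ext y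
    set S := f.ker.map R.subtype with hS
    have hnorm : (P₀ : Subgroup G) ≤ normalizer (S : Set G) := by
      intro x hx
      rw [Subgroup.mem_normalizer_iff]
      intro z
      constructor
      · rintro ⟨m, hm, rfl⟩
        exact ⟨MulAut.conjNormal x m,
          ((conjDual_eq_self_iff R x f).1 (hfix x (hP₀M x hx)) m).trans hm, by simp⟩
      · rintro ⟨m, hm, hmz⟩
        refine ⟨MulAut.conjNormal x⁻¹ m, ?_, ?_⟩
        · exact ((conjDual_eq_self_iff R x⁻¹ f).1 (hfix x⁻¹ (inv_mem (hP₀M x hx))) m).trans hm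
        · have : (m : G) = x * z * x⁻¹ := hmz
          simp [this, mul_assoc]
    have hcop : (Nat.card (P₀ : Subgroup G)).Coprime (Nat.card R) := by
      obtain ⟨k, hk⟩ := IsPGroup.iff_card.1 P₀.2
      obtain ⟨j, hj⟩ := IsPGroup.iff_card.1 d.pgroup
      rw [hk, hj]
      exact Nat.Coprime.pow _ _ ((Nat.coprime_primes hp.out d.prime).2 hrp.symm)
    obtain ⟨c, ⟨hcR, hcC⟩, hc⟩ := Coprime.exists_mem_inf_centralizer_leftCoset hnorm
      (Subgroup.map_subtype_le _) hcop (Or.inl inferInstance) y.2 (fun x hx => by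
        refine ⟨y⁻¹ * MulAut.conjNormal x y, ?_, by simp [mul_assoc]⟩
        show f _ = 1
        rw [map_mul, map_inv, (conjDual_eq_self_iff R x f).1 (hfix x (hP₀M x hx)), inv_mul_cancel])
    have hc0 : c ∈ R₀ := hR₀of c hcR fun x hx => by
      rw [commutatorElement_eq_one_iff_mul_comm.2 (Subgroup.mem_centralizer_iff.1 hcC x hx)]
      exact one_mem N
    obtain ⟨m, hm, hmc⟩ := hc
    have hy : y = ⟨c, hcR⟩ * m⁻¹ := Subtype.ext (by
      have : (m : G) = (y : G)⁻¹ * c := hmc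
      simp [this])
    rw [hy, map_mul, map_inv, show f m = 1 from hm, hf ⟨c, hcR⟩ hc0, inv_one, mul_one]
    rfl
  have hgoodW : Good (V := ↥W) q (resAut φR W hW) := by
    intro f hf
    have hT : p ∣ (inertia R (linC f.1).1).index := by
      by_contra h
      exact hf (Subtype.ext (hfree f.1 f.2 fun x hx => (mem_inertia_linC R x f.1).1
        (le_of_not_dvd P hP (irr_le_inertia R (linC f.1)) h hx)))
    obtain ⟨ψ, hψ⟩ := exists_extension_of_coprime R (linC f.1) d.cop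
    obtain ⟨Q, h1, h2, -⟩ := exists_sylow_quotient (p := q) (d := p) d.solv R (linC f.1) ψ hψ
      (hT.mul_right _) ((Nat.coprime_primes hp.out hq.out).2 hpq') hpq
    refine ⟨Q, fun x hx => Subtype.ext ?_, fun h hh => ?_⟩
    · obtain ⟨y, hy, rfl⟩ := h1 hx
      exact (mem_inertia_linC R y f.1).1 hy
    · induction h using QuotientGroup.induction_on with
      | H y => exact h2 ⟨y, (mem_inertia_linC R y f.1).2 (congrArg Subtype.val hh), rfl⟩
  -- the commutator pairing with `v`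
  set v := ⁅x₁, w₁⁆ with hvdef
  have hvR : v ∈ R := mul_mem (hRn.conj_mem w₁ hw₁ x₁) (inv_mem hw₁)
  have hmulv : ∀ y y' : R, ⁅v, ((y * y' : R) : G)⁆ = ⁅v, (y : G)⁆ * ⁅v, (y' : G)⁆ := by
    intro y y'
    rw [Subgroup.coe_mul, commutatorElement_mul_right_eq_mul_conj, mul_assoc ⁅v, (y : G)⁆,
      ← d.central _ (d.commutator_mem hvR y'.2) y y.2, ← mul_assoc, mul_inv_cancel_right]
  let pair : ↥R →* ↥N := MonoidHom.mk' (fun y => ⟨⁅v, (y : G)⁆, d.commutator_mem hvR y.2⟩)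
    fun y y' => Subtype.ext (hmulv y y')
  have hpair : ∀ y ∈ R₀, ⁅v, y⁆ = 1 := by
    intro y hy
    have hc : ⁅w₁, y⁆ ∈ N := d.commutator_mem hw₁ (hR₀R hy)
    have hn : ⁅x₁, y⁆ ∈ N := hR₀mem y hy x₁ (hP₀M x₁ hx₁)
    have hxc : ∀ n ∈ N, x₁ * n = n * x₁ := fun n hn => d.fixes_N P hrp hnp hP (hP₀M x₁ hx₁) hn
    have e1 : x₁ * y = ⁅x₁, y⁆ * y * x₁ := by rw [commutatorElement_def]; group
    have e2 : w₁ * y = ⁅w₁, y⁆ * y * w₁ := by rw [commutatorElement_def]; group
    have e3 : x₁⁻¹ * y = ⁅x₁, y⁆⁻¹ * y * x₁⁻¹ := by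
      rw [mul_assoc, inv_mul_eq_iff_eq_mul, ← mul_assoc, hxc _ (inv_mem hn), mul_assoc, ← mul_assoc x₁,
        e1]
      group
    have e4 : w₁⁻¹ * y = ⁅w₁, y⁆⁻¹ * y * w₁⁻¹ := by
      rw [mul_assoc, inv_mul_eq_iff_eq_mul, ← mul_assoc,
        ← d.central _ (inv_mem hc) w₁ hw₁, mul_assoc, ← mul_assoc w₁, e2]
      group
    refine commutatorElement_eq_one_iff_mul_comm.2 ?_
    have hyR := hR₀R hy
    have s4 : ∀ z, x₁ * (⁅x₁, y⁆⁻¹ * (y * z)) = y * (x₁ * z) := fun z => by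
      rw [← mul_assoc x₁, hxc _ (inv_mem hn), mul_assoc, ← mul_assoc x₁ y z, e1]
      group
    have s3 : ∀ z, w₁ * (⁅w₁, y⁆⁻¹ * (y * z)) = y * (w₁ * z) := fun z => by
      rw [← mul_assoc w₁, ← d.central _ (inv_mem hc) w₁ hw₁, mul_assoc, ← mul_assoc w₁ y z, e2]
      group
    have s2 : ∀ z, x₁⁻¹ * (⁅w₁, y⁆⁻¹ * z) = ⁅w₁, y⁆⁻¹ * (x₁⁻¹ * z) := fun z => by
      have h := hxc _ (inv_mem hc)
      rw [← mul_assoc, ← mul_assoc,
        show x₁⁻¹ * ⁅w₁, y⁆⁻¹ = ⁅w₁, y⁆⁻¹ * x₁⁻¹ from (Commute.inv_left (show Commute x₁ _ from h)).eq]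
    have s1 : ∀ z, w₁ * (⁅x₁, y⁆⁻¹ * z) = ⁅x₁, y⁆⁻¹ * (w₁ * z) := fun z => by
      rw [← mul_assoc, ← mul_assoc, d.central _ (inv_mem hn) w₁ hw₁]
    calc v * y = x₁ * (w₁ * (x₁⁻¹ * (w₁⁻¹ * y))) := by rw [hvdef, commutatorElement_def]; group
      _ = x₁ * (w₁ * (x₁⁻¹ * (⁅w₁, y⁆⁻¹ * (y * w₁⁻¹)))) := by rw [e4, mul_assoc]
      _ = x₁ * (w₁ * (⁅w₁, y⁆⁻¹ * (x₁⁻¹ * y * w₁⁻¹))) := by rw [s2, ← mul_assoc x₁⁻¹]
      _ = x₁ * (w₁ * (⁅w₁, y⁆⁻¹ * (⁅x₁, y⁆⁻¹ * (y * (x₁⁻¹ * w₁⁻¹))))) := by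
            rw [e3]; simp only [mul_assoc]
      _ = x₁ * (⁅x₁, y⁆⁻¹ * (w₁ * (⁅w₁, y⁆⁻¹ * (y * (x₁⁻¹ * w₁⁻¹))))) := by
            rw [← s1, ← mul_assoc ⁅w₁, y⁆⁻¹ ⁅x₁, y⁆⁻¹, d.central _ (inv_mem hc) _ (d.le (inv_mem hn)),
              mul_assoc]
      _ = y * (x₁ * (w₁ * (x₁⁻¹ * w₁⁻¹))) := by rw [s3, s4]
      _ = y * v := by rw [hvdef, commutatorElement_def]; group
  let j : (↥N →* ℂˣ) →* ↥W := MonoidHom.mk'
    (fun μ => ⟨μ.comp pair, fun y hy => by
      show μ (pair y) = 1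
      rw [show pair y = 1 from Subtype.ext (hpair y hy), map_one]⟩)
    fun μ μ' => rfl
  have hvnot : v ∉ R₀ := by
    intro hv0
    have h1 : ⁅x₁, v⁆ ∈ N := hR₀mem v hv0 x₁ (hP₀M x₁ hx₁)
    have hcom : QuotientGroup.mk' N x₁ * QuotientGroup.mk' N v =
        QuotientGroup.mk' N v * QuotientGroup.mk' N x₁ := by
      refine commutatorElement_eq_one_iff_mul_comm.1 ?_
      rw [← map_commutatorElement, QuotientGroup.mk'_apply, QuotientGroup.eq_one_iff]
      exact h1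
    have h2 := pow_orderOf_eq_one_of_conj hcom (w := QuotientGroup.mk' N w₁) (by
      rw [← map_inv, ← map_mul, ← map_mul, ← map_mul, hvdef, commutatorElement_def,
        inv_mul_cancel_right])
    obtain ⟨k, hk⟩ := IsPGroup.iff_card.1 P₀.2
    obtain ⟨i, hi⟩ := IsPGroup.iff_card.1 d.pgroup
    have hcop : (orderOf (QuotientGroup.mk' N x₁)).Coprime (Nat.card R) := by
      refine Nat.Coprime.coprime_dvd_left
        ((orderOf_map_dvd _ x₁).trans (Subgroup.orderOf_dvd_natCard _ hx₁)) ?_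
      rw [hk, hi]
      exact Nat.Coprime.pow _ _ ((Nat.coprime_primes hp.out d.prime).2 hrp.symm)
    refine hv₁ ((QuotientGroup.eq_one_iff v).1 ?_)
    rw [← pow_one (v : G ⧸ N), ← hcop.gcd_eq_one]
    exact orderOf_dvd_iff_pow_eq_one.1 (Nat.dvd_gcd (orderOf_dvd_of_pow_eq_one h2)
      ((orderOf_map_dvd (QuotientGroup.mk' N) v).trans (Subgroup.orderOf_dvd_natCard R hvR)))
  have hj : Function.Injective j := by
    refine (injective_iff_map_eq_one j).2 fun μ hμ => ?_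
    by_contra hne
    have hμv : ∀ y : R, μ (pair y) = 1 := fun y =>
      DFunLike.congr_fun (congrArg Subtype.val hμ) y
    obtain ⟨χ, hχ, -⟩ := d.exists_fixed_over μ
    have hnl := d.degree_ne_one hne hχ
    obtain ⟨m, ρ, hρ, hρχ⟩ := χ.2
    haveI := hρ
    have hm : degree χ = m := degree_eq_of_apply_one (by rw [← hρχ, Representation.char_one]; simp)
    have hm0 : (m : ℂ) ≠ 0 := Nat.cast_ne_zero.2 (hm ▸ (degree_pos χ).ne')
    have hscal : ∀ n : N, ρ ⟨n, d.le n.2⟩ = (μ n : ℂ) • 1 := by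
      intro n
      obtain ⟨c, hc⟩ := Clifford.exists_scalar_of_commute ρ (ρ ⟨n, d.le n.2⟩) fun g => by
        rw [← map_mul, ← map_mul]
        exact congrArg ρ (Subtype.ext (d.central n n.2 g g.2))
      rw [Algebra.algebraMap_eq_smul_one] at hc
      have h1 := congrFun hρχ ⟨n, d.le n.2⟩
      rw [hχ n, hm, Representation.character, hc, map_smul, LinearMap.trace_one,
        Module.finrank_fin_fun, smul_eq_mul, mul_comm (m : ℂ)] at h1
      rw [hc, mul_right_cancel₀ hm0 h1]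
    have hcomm : ∀ y : R, ρ ⟨v, hvR⟩ * ρ y = ρ y * ρ ⟨v, hvR⟩ := by
      intro y
      have e : (⟨v, hvR⟩ : R) * y = ⟨_, d.le (d.commutator_mem hvR y.2)⟩ * (y * ⟨v, hvR⟩) :=
        Subtype.ext (by simp [commutatorElement_def, mul_assoc])
      rw [← map_mul, e, map_mul, hscal ⟨_, d.commutator_mem hvR y.2⟩,
        show μ ⟨_, d.commutator_mem hvR y.2⟩ = 1 from hμv y, Units.val_one, one_smul, one_mul,
        map_mul]
    obtain ⟨c, hc⟩ := Clifford.exists_scalar_of_commute ρ (ρ ⟨v, hvR⟩) hcomm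
    rw [Algebra.algebraMap_eq_smul_one] at hc
    haveI := nontrivial_of_isIrreducible ρ
    have hc0 : c ≠ 0 := fun h0 => by
      have h1 : (1 : Module.End ℂ (Fin m → ℂ)) = ρ ⟨v, hvR⟩⁻¹ * ρ ⟨v, hvR⟩ := by
        rw [← map_mul, inv_mul_cancel, map_one]
      rw [hc, h0, zero_smul, mul_zero] at h1
      exact one_ne_zero h1
    have hχv : χ.1 ⟨v, hvR⟩ ≠ 0 := by
      rw [← hρχ, Representation.character, hc, map_smul, LinearMap.trace_one,
        Module.finrank_fin_fun, smul_eq_mul]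
      exact mul_ne_zero hc0 hm0
    refine hvnot (hR₀of v hvR fun x hx => ?_)
    refine d.mem_of_forall_linear (mul_mem (hRn.conj_mem v hvR x) (inv_mem hvR)) fun f => ?_
    let χ' : IrrCharacter R := ⟨_, IsIrrCharacter.mul_linear χ.2 ((Units.coeHom ℂ).comp f)⟩
    have hd' : degree χ' = degree χ := by
      refine degree_eq_of_apply_one ?_
      simp [χ', apply_one_eq_degree]
    have hfx := fun χ'' (h'' : degree χ'' ≠ 1) => congrFun ((mem_inertia R).1
      (d.fixes_nonlinear P hrp hnp hP χ'' h'' (hP₀M x hx))) ⟨v, hvR⟩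
    have h1 := hfx χ hnl
    have h2 := hfx χ' (by rw [hd']; exact hnl)
    have h3 : (f (MulAut.conjNormal x ⟨v, hvR⟩) : ℂ) = (f ⟨v, hvR⟩ : ℂ) := by
      simp only [conjFun] at h1 h2
      have h2' : (f (MulAut.conjNormal x ⟨v, hvR⟩) : ℂ) * χ.1 (MulAut.conjNormal x ⟨v, hvR⟩) =
          (f ⟨v, hvR⟩ : ℂ) * χ.1 ⟨v, hvR⟩ := by
        simpa [χ', mul_comm] using h2
      rw [h1] at h2'
      exact mul_right_cancel₀ hχv h2'
    refine Eq.trans (congrArg f (Subtype.ext ?_ :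
      _ = MulAut.conjNormal x ⟨v, hvR⟩ * (⟨v, hvR⟩ : R)⁻¹)) ?_
    · simp [commutatorElement_def]
    · rw [map_mul, map_inv, Units.ext h3, mul_inv_cancel]
  obtain ⟨f₁, hf₁, hf₁v⟩ : ∃ f ∈ W, f ⟨v, hvR⟩ ≠ 1 := by
    by_contra! hall
    refine hvnot ?_
    have hle : commutator R ≤ R₀.subgroupOf R := fun y hy => by
      refine hR₀of y y.2 fun x hx => ?_
      have hyN := d.map_commutator_eq hy
      exact mul_mem (hNn.conj_mem _ hyN x) (inv_mem hyN)
    haveI : (R₀.subgroupOf R).Normal := Subgroup.normal_subgroupOf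
    have h0 : ((⟨v, hvR⟩ : R) : R ⧸ R₀.subgroupOf R) ∈ commutator (R ⧸ R₀.subgroupOf R) :=
      mem_commutator_of_forall fun f => hall (f.comp (QuotientGroup.mk' _)) fun y hy => by
        show f (QuotientGroup.mk' _ y) = 1
        rw [QuotientGroup.mk'_apply, (QuotientGroup.eq_one_iff y).2 hy, map_one]
    rw [_root_.commutator_def, ← Subgroup.map_top_of_surjective (QuotientGroup.mk' (R₀.subgroupOf R))
      (QuotientGroup.mk'_surjective _), ← Subgroup.map_commutator, ← _root_.commutator_def,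
      (Subgroup.map_eq_bot_iff _).2
        (hle.trans_eq (QuotientGroup.ker_mk' _).symm), Subgroup.mem_bot, QuotientGroup.eq_one_iff] at h0
    exact h0
  have hjnot : ¬ Function.Surjective j := fun hs => by
    obtain ⟨μ, hμ⟩ := hs ⟨f₁, hf₁⟩
    refine hf₁v ?_
    rw [← show μ.comp pair = f₁ from congrArg Subtype.val hμ, MonoidHom.comp_apply,
      show pair ⟨v, hvR⟩ = 1 from Subtype.ext (commutatorElement_self v), map_one]
  haveI : Finite (↥N →* ℂˣ) := finite_dual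
  haveI : Finite ↥W := inferInstance
  have hlt : Nat.card (↥N →* ℂˣ) < Nat.card W := by
    haveI := Fintype.ofFinite (↥N →* ℂˣ)
    haveI := Fintype.ofFinite ↥W
    rw [Nat.card_eq_fintype_card, Nat.card_eq_fintype_card]
    exact Fintype.card_lt_of_injective_not_surjective _ hj hjnot
  haveI : Nontrivial ↥W := hj.nontrivial
  obtain ⟨c, hc⟩ := IsPGroup.iff_card.1 (show IsPGroup r (↥N →* ℂˣ) from fun μ => ⟨1, by
    rw [pow_one]
    exact pow_eq_one_dual (fun x : N => Subtype.ext (by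
      rw [SubmonoidClass.coe_pow]; exact he x x.2)) μ⟩)
  obtain ⟨a, ha⟩ := IsPGroup.iff_card.1 (show IsPGroup r ↥W from fun μ => by
    obtain ⟨k, hk⟩ := IsPGroup.iff_card.1 d.pgroup
    refine ⟨k, Subtype.ext ?_⟩
    rw [SubmonoidClass.coe_pow, ← hk]
    exact pow_eq_one_dual (fun x : R => pow_card_eq_one') μ.1)
  haveI := Fact.mk d.prime
  obtain ⟨b, hb1, -, hb⟩ := exists_count hgoodW hQ ha
  obtain ⟨b', hb'1, -, hb'⟩ := exists_count (d.good_dual hrq hnq) hQ hc
  have hac := exponent_eq_of_mul_eq d.prime (one_lt_card_sylow hQ) hb1 hb'1 hb hb'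
  rw [ha, hc, hac] at hlt
  exact lt_irrefl _ hlt

end Data

theorem case_two {G : Type u} [Group G] [Finite G] (hsolv : Group.IsSolvable G) {p q r : ℕ}
    (hp : p.Prime) (hq : q.Prime) (hr : r.Prime) (hpq' : p ≠ q) (hqr' : q ≠ r) (hpr' : p ≠ r)
    (N : Subgroup G) [N.Normal] [IsMulCommutative N] (hN : N ≠ ⊥)
    (hmin : ∀ M : Subgroup G, M.Normal → M ≤ N → M = ⊥ ∨ M = N)
    (he : ∀ x ∈ N, x ^ r = 1)
    (hdp : HasDeg G p) (hdq : HasDeg G q) (hdr : HasDeg G r)
    (hpq : ¬ HasDeg G (p * q)) (hrp : ¬ HasDeg G (r * p)) (hrq : ¬ HasDeg G (r * q))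
    (hmiss : ¬ HasDeg (G ⧸ N) r) : False := by
  classical
  haveI := hsolv
  haveI := Fact.mk hr
  haveI := Fact.mk hp
  haveI := Fact.mk hq
  obtain ⟨S, hSn, hSab⟩ := exists_sylow_of_not_hasDeg (inferInstance : Group.IsSolvable (G ⧸ N)) hmiss
  have hNr : IsPGroup r N := fun x => ⟨1, Subtype.ext (by
    rw [pow_one, SubmonoidClass.coe_pow]; exact he x x.2)⟩
  obtain ⟨R₁⟩ : Nonempty (Sylow r G) := inferInstance
  set R := (S : Subgroup (G ⧸ N)).comap (QuotientGroup.mk' N) with hRdef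
  haveI hRn : R.Normal := hSn.comap _
  have hNR : N ≤ R := fun x hx => by
    rw [hRdef, Subgroup.mem_comap, QuotientGroup.mk'_apply, (QuotientGroup.eq_one_iff x).2 hx]
    exact one_mem _
  have hRp : IsPGroup r R := IsPGroup.comap_of_ker_isPGroup S.2 (QuotientGroup.mk' N)
    (by rwa [QuotientGroup.ker_mk'])
  have hRi : ¬ r ∣ R.index := by
    rw [hRdef, Subgroup.index_comap_of_surjective _ (QuotientGroup.mk'_surjective N)]
    exact S.not_dvd_index
  have hle : ⁅R, R⁆ ≤ N := Subgroup.commutator_le.2 fun a ha b hb => by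
    rw [← QuotientGroup.eq_one_iff]
    show QuotientGroup.mk' N ⁅a, b⁆ = 1
    rw [map_commutatorElement]
    exact commutatorElement_eq_one_iff_mul_comm.2
      (congrArg Subtype.val (mul_comm' (⟨_, ha⟩ : (S : Subgroup (G ⧸ N))) ⟨_, hb⟩))
  have hcomm : ⁅R, R⁆ = N := (hmin _ inferInstance hle).resolve_left fun h => by
    haveI : IsMulCommutative R := ⟨⟨fun a b => Subtype.ext (commutatorElement_eq_one_iff_mul_comm.1
      (Subgroup.mem_bot.1 (h ▸ Subgroup.commutator_mem_commutator a.2 b.2)))⟩⟩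
    exact not_hasDeg_of_comm R hRi hdr
  have hcent : ∀ n ∈ N, ∀ y ∈ R, n * y = y * n := by
    rcases hmin (N ⊓ centralizer (R : Set G)) inferInstance inf_le_left with h | h
    · exfalso
      have h1 := PGroup.inf_center_ne_bot hRp (N.subgroupOf R) (fun h0 => hN (by
        rw [Subgroup.subgroupOf_eq_bot] at h0
        exact h0.eq_bot_of_le hNR))
      refine h1 ((Subgroup.eq_bot_iff_forall _).2 fun y hy => Subtype.ext ?_)
      refine Subgroup.mem_bot.1 (h ▸ ⟨hy.1, Subgroup.mem_centralizer_iff.2 fun z hz => ?_⟩)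
      exact congrArg Subtype.val (Subgroup.mem_center_iff.1 hy.2 ⟨z, hz⟩)
    · intro n hn y hy
      exact (Subgroup.mem_centralizer_iff.1
        ((h.symm ▸ hn : n ∈ N ⊓ centralizer (R : Set G))).2 y hy).symm
  obtain ⟨k, hk⟩ := IsPGroup.iff_card.1 hRp
  have hcop : R.index.Coprime (Nat.card R) := by
    rw [hk]
    exact ((hr.coprime_iff_not_dvd.2 hRi).symm).pow_right k
  have d : Data G r N R := ⟨hsolv, hr, hNR, hcomm, hcent, hRp, hcop⟩
  by_cases hP : ∃ P : Sylow p (G ⧸ R), (P : Subgroup (G ⧸ R)).Normal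
  · obtain ⟨P, hP⟩ := hP
    by_cases hQ : ∃ Q : Sylow q (G ⧸ R), (Q : Subgroup (G ⧸ R)).Normal
    · obtain ⟨Q, hQ⟩ := hQ
      exact d.not_both_normal hN hpq' hpr'.symm hqr'.symm hdp hdq hpq hrp hrq P hP Q hQ
    · exact d.not_one_normal hN he hpq' hpr'.symm hqr'.symm hdp hpq hrp hrq P hP
        (fun Q hQ' => hQ ⟨Q, hQ'⟩)
  · by_cases hQ : ∃ Q : Sylow q (G ⧸ R), (Q : Subgroup (G ⧸ R)).Normal
    · obtain ⟨Q, hQ⟩ := hQ
      exact d.not_one_normal hN he hpq'.symm hqr'.symm hpr'.symm hdq (by rwa [mul_comm]) hrq hrp Q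
        hQ (fun P hP' => hP ⟨P, hP'⟩)
    · haveI := nontrivial_dual N hN
      refine hpq (HasDeg.of_quotient R ?_)
      exact exists_degree_dvd (V := ↥N →* ℂˣ) hp hq hr hpq' (pow_eq_one_dual fun x : N => Subtype.ext (by
          rw [SubmonoidClass.coe_pow]; exact he x x.2))
        (d.good_dual hpr'.symm hrp) (d.good_dual hqr'.symm hrq)
        (fun P hP' => hP ⟨P, hP'⟩) (fun Q hQ' => hQ ⟨Q, hQ'⟩)

end Cfsg.Agent.ThreePrimes
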