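import Mathlib

/-!
# Actions in which every nontrivial stabiliser has a normal full Sylow subgroup

`Good p φ`: for every `v ≠ 1` the stabiliser of `v` contains a Sylow `p`-subgroup of the acting
group as a normal subgroup. Then `|V| - 1 = n_p (|C_V(P)| - 1)`.
-/

set_option autoImplicit false

namespace Cfsg.Agent.ThreePrimes

open Subgroup
open scoped Pointwise

set_option linter.style.haveILetI false

variable {H V : Type*} [Group H] [Group V] {p : ℕ}

/-- The stabiliser of every nontrivial element contains a Sylow subgroup as a normal subgroup. -/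
def Good (p : ℕ) (φ : H →* MulAut V) : Prop :=
  ∀ v : V, v ≠ 1 → ∃ P : Sylow p H, (∀ x ∈ (P : Subgroup H), φ x v = v) ∧
    ∀ h : H, φ h v = v → h ∈ normalizer ((P : Subgroup H) : Set H)

/-- The fixed points of a subgroup of the acting group. -/
def fixSub (φ : H →* MulAut V) (S : Subgroup H) : Subgroup V where
  carrier := {v | ∀ x ∈ S, φ x v = v}
  one_mem' := fun x _ => map_one _
  mul_mem' := fun {a b} ha hb x hx => by rw [map_mul, ha x hx, hb x hx]
  inv_mem' := fun {a} ha x hx => by rw [map_inv, ha x hx]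

theorem mem_fixSub {φ : H →* MulAut V} {S : Subgroup H} {v : V} :
    v ∈ fixSub φ S ↔ ∀ x ∈ S, φ x v = v := Iff.rfl

theorem eq_of_le_normalizer [Finite H] [Fact p.Prime] (P Q : Sylow p H)
    (h : (Q : Subgroup H) ≤ normalizer ((P : Subgroup H) : Set H)) : Q = P := by
  have h2 : (Q : Subgroup H) ≤ P := by
    have h1 := Q.2.inf_normalizer_sylow P
    have h' : (Q : Subgroup H) ≤ normalizer (P : Set H) := h
    rw [inf_eq_left.2 h'] at h1
    exact h1.le.trans inf_le_right
  exact Sylow.ext (Q.3 P.2 h2).symm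

theorem card_fixSub_conj (φ : H →* MulAut V) (S : Subgroup H) (g : H) :
    Nat.card (fixSub φ (MulAut.conj g • S)) = Nat.card (fixSub φ S) := by
  have key : fixSub φ (MulAut.conj g • S) = (fixSub φ S).map (φ g).toMonoidHom := by
    ext v
    rw [Subgroup.mem_map_equiv, mem_fixSub, mem_fixSub]
    constructor
    · intro hv x hx
      have h := hv (g * x * g⁻¹) (Subgroup.mem_pointwise_smul_iff_inv_smul_mem.2 (by
        simpa [MulAut.smul_def, mul_assoc] using hx))
      rw [map_mul, map_mul, MulAut.mul_apply, MulAut.mul_apply, map_inv, MulAut.inv_apply] at h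
      exact ((φ g).eq_symm_apply).2 h
    · intro hv y hy
      rw [Subgroup.mem_pointwise_smul_iff_inv_smul_mem] at hy
      have h := hv _ hy
      simp only [MulAut.smul_def, MulAut.inv_apply, MulAut.conj_symm_apply, map_mul, map_inv,
        MulAut.mul_apply] at h
      simpa using congrArg (φ g) h
  rw [key, Subgroup.card_map_of_injective (φ g).injective]

namespace Good

variable {φ : H →* MulAut V}

section
variable [Finite H] [Finite V] [Fact p.Prime] (hg : Good p φ)
include hg

theorem card_sub_one (P : Sylow p H) :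
    Nat.card V - 1 = Nat.card (Sylow p H) * (Nat.card (fixSub φ (P : Subgroup H)) - 1) := by
  classical
  haveI := Fintype.ofFinite V
  haveI := Fintype.ofFinite (Sylow p H)
  let f : {v : V // v ≠ 1} → Sylow p H := fun v => Classical.choose (hg v.1 v.2)
  have hf : ∀ (v : {v : V // v ≠ 1}) (Q : Sylow p H), f v = Q ↔ v.1 ∈ fixSub φ (Q : Subgroup H) := by
    intro v Q
    obtain ⟨h1, h2⟩ := Classical.choose_spec (hg v.1 v.2)
    exact ⟨fun h => h ▸ h1, fun h => (eq_of_le_normalizer (f v) Q fun x hx => h2 x (h x hx)).symm⟩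
  have hfib : ∀ Q : Sylow p H, Nat.card {v : {v : V // v ≠ 1} // f v = Q} =
      Nat.card (fixSub φ (P : Subgroup H)) - 1 := by
    intro Q
    obtain ⟨g, hgQ⟩ := MulAction.exists_smul_eq H P Q
    rw [← card_fixSub_conj φ (P : Subgroup H) g, ← Sylow.pointwise_smul_def,
      ← show (Q : Subgroup H) = ((MulAut.conj g • P : Sylow p H) : Subgroup H) by
        rw [← hgQ, Sylow.smul_def]]
    haveI := Fintype.ofFinite (fixSub φ (Q : Subgroup H))
    rw [Nat.card_congr (show {v : {v : V // v ≠ 1} // f v = Q} ≃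
        {w : fixSub φ (Q : Subgroup H) // w ≠ 1} from
      { toFun := fun v => ⟨⟨v.1.1, (hf v.1 Q).1 v.2⟩, fun h => v.1.2 (congrArg Subtype.val h)⟩
        invFun := fun w => ⟨⟨w.1.1, fun h => w.2 (Subtype.ext h)⟩, (hf _ Q).2 w.1.2⟩
        left_inv := fun _ => rfl
        right_inv := fun _ => rfl }),
      Nat.card_eq_fintype_card, Fintype.card_subtype_compl, Fintype.card_subtype_eq,
      Nat.card_eq_fintype_card]
  have hV : Nat.card {v : V // v ≠ 1} = Nat.card V - 1 := by
    rw [Nat.card_eq_fintype_card, Fintype.card_subtype_compl, Fintype.card_subtype_eq,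
      Nat.card_eq_fintype_card]
  rw [← hV, ← Nat.card_congr (Equiv.sigmaFiberEquiv f), Nat.card_sigma,
    Finset.sum_congr rfl (fun Q _ => hfib Q), Finset.sum_const, Finset.card_univ, smul_eq_mul]
  simp only [Nat.card_eq_fintype_card]

theorem fixSub_ne_bot [Nontrivial V] (P : Sylow p H) : fixSub φ (P : Subgroup H) ≠ ⊥ := by
  intro h
  have := hg.card_sub_one P
  rw [h, Subgroup.card_bot] at this
  have h1 : 1 < Nat.card V := Finite.one_lt_card
  simp at this
  omega

theorem ker_le_normalizer [Nontrivial V] (P : Sylow p H) :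
    φ.ker ≤ normalizer ((P : Subgroup H) : Set H) := by
  intro k hk
  obtain ⟨v, hv, hv1⟩ : ∃ v : V, v ∈ fixSub φ (P : Subgroup H) ∧ v ≠ 1 := by
    by_contra! hc
    exact hg.fixSub_ne_bot P ((Subgroup.eq_bot_iff_forall _).2 hc)
  obtain ⟨Q, -, hQ⟩ := hg v hv1
  rw [eq_of_le_normalizer Q P fun x hx => hQ x (hv x hx)]
  exact hQ k (by rw [MonoidHom.mem_ker.1 hk]; rfl)

end

theorem kerLift [Finite H] [Fact p.Prime] (hg : Good p φ) :
    Good p (QuotientGroup.kerLift φ) := by
  intro v hv
  obtain ⟨P, h1, h2⟩ := hg v hv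
  refine ⟨P.mapSurjective (QuotientGroup.mk'_surjective φ.ker), ?_, fun h hh => ?_⟩
  · rintro _ ⟨x, hx, rfl⟩
    exact h1 x hx
  · induction h using QuotientGroup.induction_on with
    | H x =>
      exact Subgroup.le_normalizer_map (QuotientGroup.mk' φ.ker)
        (Subgroup.mem_map_of_mem _ (h2 x hh))

end Good

theorem normal_of_normal_map [Finite H] [Fact p.Prime] (N : Subgroup H) [N.Normal] (P : Sylow p H)
    (hN : N ≤ normalizer ((P : Subgroup H) : Set H))
    (hn : ((P : Subgroup H).map (QuotientGroup.mk' N)).Normal) : (P : Subgroup H).Normal := by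
  set M := ((P : Subgroup H).map (QuotientGroup.mk' N)).comap (QuotientGroup.mk' N) with hM
  have hPM : (P : Subgroup H) ≤ M := Subgroup.le_comap_map _ _
  haveI hMn : M.Normal := hn.comap _
  have hMle : M ≤ normalizer ((P : Subgroup H) : Set H) := by
    rw [hM, Subgroup.comap_map_eq, QuotientGroup.ker_mk']
    exact sup_le Subgroup.le_normalizer hN
  rw [← Subgroup.normalizer_eq_top_iff, eq_top_iff]
  intro g _
  refine Sylow.smul_eq_iff_mem_normalizer.1 (eq_of_le_normalizer P (g • P) ?_)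
  rw [Sylow.smul_def, Sylow.pointwise_smul_def]
  refine le_trans ?_ hMle
  rintro _ ⟨x, hx, rfl⟩
  exact hMn.conj_mem x (hPM hx) g

/-- The restriction of an action to an invariant subgroup. -/
def resAut (φ : H →* MulAut V) (W : Subgroup V) (hW : ∀ h, ∀ w ∈ W, φ h w ∈ W) :
    H →* MulAut W where
  toFun h :=
    { toFun := fun w => ⟨φ h w, hW h w w.2⟩
      invFun := fun w => ⟨φ h⁻¹ w, hW h⁻¹ w w.2⟩
      left_inv := fun w => Subtype.ext (by simp)
      right_inv := fun w => Subtype.ext (by simp)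
      map_mul' := fun a b => Subtype.ext (map_mul _ _ _) }
  map_one' := by ext w; simp
  map_mul' a b := by ext w; simp

@[simp] theorem resAut_apply_coe (φ : H →* MulAut V) (W : Subgroup V)
    (hW : ∀ h, ∀ w ∈ W, φ h w ∈ W) (h : H) (w : W) : (resAut φ W hW h w : V) = φ h w := rfl

/-- Two powers of a prime with the same `n`. -/
theorem exponent_eq_of_mul_eq {r n a b c d : ℕ} (hr : r.Prime) (hn : 1 < n) (hb : 1 ≤ b)
    (hd : 1 ≤ d) (h1 : n * (r ^ b - 1) = r ^ a - 1) (h2 : n * (r ^ d - 1) = r ^ c - 1) :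
    a = c := by
  have key : ∀ {a b : ℕ}, 1 ≤ b → n * (r ^ b - 1) = r ^ a - 1 →
      ¬ r ^ (b + 1) ∣ n - 1 ∧ r ^ b ∣ n - 1 := by
    intro a b hb h
    have hrb : 1 < r ^ b := Nat.one_lt_pow (by omega) hr.one_lt
    have hlt : r ^ b - 1 < r ^ a - 1 := by
      rw [← h]; exact lt_mul_of_one_lt_left (by omega) hn
    have hba : b < a := by
      by_contra hc
      have := Nat.pow_le_pow_right hr.pos (Nat.not_lt.1 hc)
      omega
    obtain ⟨e, rfl⟩ : ∃ e, a = b + (e + 1) := ⟨a - b - 1, by omega⟩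
    obtain ⟨m, rfl⟩ : ∃ m, n = m + 1 := ⟨n - 1, by omega⟩
    have hre : 1 ≤ r ^ (e + 1) := Nat.one_le_pow _ _ hr.pos
    have e1 : (m : ℤ) = (r : ℤ) ^ b * ((m : ℤ) + 1 - (r : ℤ) ^ (e + 1)) := by
      have h' := congrArg (fun x : ℕ => (x : ℤ)) h
      have hra : 1 ≤ r ^ (b + (e + 1)) := Nat.one_le_pow _ _ hr.pos
      simp only [Nat.cast_mul, Nat.cast_sub (show 1 ≤ r ^ b by omega), Nat.cast_sub hra,
        Nat.cast_pow, Nat.cast_one, Nat.cast_add] at h'
      rw [pow_add] at h'
      linear_combination -h'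
    have hrm : (r : ℤ) ^ b ∣ (m : ℤ) := Dvd.intro _ e1.symm
    refine ⟨fun hdvd => ?_, by exact_mod_cast hrm⟩
    have hdvd' : (r : ℤ) ^ (b + 1) ∣ (m : ℤ) := by exact_mod_cast hdvd
    rw [e1, pow_succ] at hdvd'
    have h3 : (r : ℤ) ∣ (m : ℤ) + 1 - (r : ℤ) ^ (e + 1) :=
      (mul_dvd_mul_iff_left (pow_ne_zero _ (by exact_mod_cast hr.ne_zero))).1 hdvd'
    have h4 : (r : ℤ) ∣ (m : ℤ) + 1 := by
      have := dvd_add h3 (dvd_pow_self (r : ℤ) e.succ_ne_zero)
      simpa using this
    have h5 : (r : ℤ) ∣ 1 := by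
      have := dvd_sub h4 ((dvd_pow_self (r : ℤ) (by omega : b ≠ 0)).trans hrm)
      simpa using this
    exact hr.not_dvd_one (by exact_mod_cast h5)
  obtain ⟨hb1, hb2⟩ := key hb h1
  obtain ⟨hd1, hd2⟩ := key hd h2
  have hbd : b = d := by
    rcases lt_trichotomy b d with h | h | h
    · exact absurd ((pow_dvd_pow r h).trans hd2) hb1
    · exact h
    · exact absurd ((pow_dvd_pow r h).trans hb2) hd1
  subst hbd
  have h3 : r ^ a - 1 = r ^ c - 1 := h1.symm.trans h2
  have := Nat.one_le_pow a r hr.pos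
  have := Nat.one_le_pow c r hr.pos
  exact Nat.pow_right_injective hr.two_le (show r ^ a = r ^ c by omega)

end Cfsg.Agent.ThreePrimes
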