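import Cfsg.Agent.Lib.ThreePrimes.Good
import Cfsg.Agent.Lib.ThreePrimes.Chars
import Cfsg.Agent.Lib.PCore.HallHigman
import Cfsg.Agent.Lib.Coprime.Action
import Cfsg.Agent.Lib.IsolatedP.Cyclic
import Cfsg.Agent.Lib.Zsigmondy.Basic
import Mathlib.LinearAlgebra.Matrix.GeneralLinearGroup.Card

/-!
# A good module for two primes gives a degree divisible by both

`exists_degree_dvd`: if a solvable group acts on an elementary abelian group so that each
nontrivial stabiliser has normal full Sylow `p`- and `q`-subgroups and neither Sylow subgroup of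
the whole group is normal, then `p q` divides a character degree.
-/

set_option autoImplicit false
set_option linter.style.haveILetI false
set_option linter.unusedSectionVars false

namespace Cfsg.Agent.ThreePrimes

open Cfsg.Agent.Char Subgroup

universe u v

variable {H : Type u} [Group H] [Finite H] {V : Type v} [CommGroup V] [Finite V] [Nontrivial V]
  {φ : H →* MulAut V} {p q ℓ a : ℕ}

theorem one_lt_card_sylow [Fact p.Prime] (h : ∀ P : Sylow p H, ¬ (P : Subgroup H).Normal) :
    1 < Nat.card (Sylow p H) := by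
  by_contra hc
  haveI : Subsingleton (Sylow p H) := Finite.card_le_one_iff_subsingleton.1 (not_lt.1 hc)
  exact h default (Sylow.normal_of_subsingleton _)

theorem exists_count [Fact p.Prime] [Fact ℓ.Prime] (hg : Good p φ)
    (hn : ∀ P : Sylow p H, ¬ (P : Subgroup H).Normal) (ha : Nat.card V = ℓ ^ a) :
    ∃ b, 1 ≤ b ∧ b < a ∧ Nat.card (Sylow p H) * (ℓ ^ b - 1) = ℓ ^ a - 1 := by
  have h1 := hg.card_sub_one default
  obtain ⟨b, -, hb⟩ := (Nat.dvd_prime_pow (Fact.out : ℓ.Prime)).1
    (ha ▸ Subgroup.card_subgroup_dvd_card (fixSub φ ((default : Sylow p H) : Subgroup H)))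
  rw [hb, ha] at h1
  have hb1 : 1 ≤ b := by
    refine Nat.one_le_iff_ne_zero.2 fun h0 => hg.fixSub_ne_bot default (Subgroup.card_eq_one.1 ?_)
    rw [hb, h0, pow_zero]
  refine ⟨b, hb1, ?_, h1.symm⟩
  by_contra hc
  have h2 := Nat.pow_le_pow_right (Fact.out : ℓ.Prime).pos (not_lt.1 hc)
  have h3 : 1 < ℓ ^ b := Nat.one_lt_pow (by omega) (Fact.out : ℓ.Prime).one_lt
  have h4 : 2 * (ℓ ^ b - 1) ≤ Nat.card (Sylow p H) * (ℓ ^ b - 1) :=
    Nat.mul_le_mul_right _ (one_lt_card_sylow hn)
  omega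

theorem ne_of_dvd_card_sylow [hp : Fact p.Prime] {t : ℕ} (ht : t ∣ Nat.card (Sylow p H)) :
    t ≠ p := by
  rintro rfl
  exact not_dvd_card_sylow t H ht

/-- A prime `p` with `t ∣ n_p` divides the index of `O_t` in `H / O_{t'}(H)`. -/
theorem dvd_index_pCore [hp : Fact p.Prime] {t : ℕ} [ht : Fact t.Prime]
    (hdvd : t ∣ Nat.card (Sylow p H)) :
    p ∣ (pCore t (H ⧸ pPrimeCore t H)).index := by
  classical
  set K := pPrimeCore t H with hKdef
  set P : Sylow p H := default
  set P' : Sylow p (H ⧸ K) := P.mapSurjective (QuotientGroup.mk'_surjective K) with hP'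
  have hPK : ¬ (P : Subgroup H) ≤ K := by
    intro hle
    have hsup := Sylow.normalizer_sup_eq_top (P.subtype hle)
    rw [show (((P.subtype hle : Sylow p K) : Subgroup K)).map K.subtype = (P : Subgroup H) by
      rw [Sylow.coe_subtype, Subgroup.map_subgroupOf_eq_of_le hle]] at hsup
    have hidxK : K.relIndex (normalizer ((P : Subgroup H) : Set H)) = K.index := by
      rw [← Subgroup.relIndex_sup_right, hsup, Subgroup.relIndex_top_right]
    have hmul := Subgroup.card_mul_index (normalizer ((P : Subgroup H) : Set H))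
    have hmul' := Subgroup.card_mul_index (K.subgroupOf (normalizer ((P : Subgroup H) : Set H)))
    rw [show (K.subgroupOf (normalizer ((P : Subgroup H) : Set H))).index = K.index from hidxK]
      at hmul'
    have h2 : (normalizer ((P : Subgroup H) : Set H)).index ∣ Nat.card K := by
      refine ⟨Nat.card (K.subgroupOf (normalizer ((P : Subgroup H) : Set H))), ?_⟩
      refine Nat.eq_of_mul_eq_mul_right (Nat.pos_of_ne_zero K.index_ne_zero_of_finite) ?_
      rw [Subgroup.card_mul_index K, ← hmul, ← hmul']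
      ring
    rw [Sylow.card_eq_index_normalizer P] at hdvd
    exact PCore.not_dvd_card_pPrimeCore (hdvd.trans h2)
  have hne : (P' : Subgroup (H ⧸ K)) ≠ ⊥ := fun h => hPK (by
    rw [← QuotientGroup.ker_mk' K, ← Subgroup.map_eq_bot_iff]
    exact h)
  have hpdvd : p ∣ Nat.card (P' : Subgroup (H ⧸ K)) := by
    obtain ⟨k, hk⟩ := IsPGroup.iff_card.1 P'.2
    refine hk ▸ dvd_pow_self p fun h0 => hne (Subgroup.card_eq_one.1 ?_)
    rw [hk, h0, pow_zero]
  have h1 := hpdvd.trans (Subgroup.card_subgroup_dvd_card _)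
  rw [← Subgroup.card_mul_index (pCore t (H ⧸ K))] at h1
  refine (hp.out.dvd_mul.1 h1).resolve_left fun h => ne_of_dvd_card_sylow hdvd ?_
  obtain ⟨k, hk⟩ := PCore.exists_card_pCore (p := t) (G := H ⧸ K)
  rw [hk] at h
  exact ((Nat.prime_dvd_prime_iff_eq hp.out ht.out).1 (hp.out.dvd_of_dvd_pow h)).symm

theorem eq_one_of_fixed [hl : Fact ℓ.Prime] (hinj : Function.Injective φ) (ha : Nat.card V = ℓ ^ a)
    {t : ℕ} [ht : Fact t.Prime] (hta : t ∣ ℓ ^ a - 1)
    (hprim : ∀ k, 0 < k → k < a → ¬ t ∣ ℓ ^ k - 1)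
    {x : H} (hx : x ^ t = 1) (hx1 : x ≠ 1) {v : V} (hv : φ x v = v) : v = 1 := by
  classical
  have hz : IsPGroup t (Subgroup.zpowers x) := by
    refine IsPGroup.of_card (n := 1) ?_
    rw [Nat.card_zpowers, orderOf_eq_prime hx hx1, pow_one]
  letI : MulAction (Subgroup.zpowers x) V :=
    MulAction.compHom V (φ.comp (Subgroup.zpowers x).subtype)
  have hfix : MulAction.fixedPoints (Subgroup.zpowers x) V = (fixSub φ (Subgroup.zpowers x) : Set V) := by
    ext w
    exact ⟨fun h y hy => h ⟨y, hy⟩, fun h y => h y y.2⟩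
  have hmod := hz.card_modEq_card_fixedPoints V
  rw [hfix, SetLike.coe_sort_coe, ha] at hmod
  obtain ⟨i, hia, hi⟩ := (Nat.dvd_prime_pow hl.out).1
    (ha ▸ Subgroup.card_subgroup_dvd_card (fixSub φ (Subgroup.zpowers x)))
  rw [hi] at hmod
  have hi0 : i = 0 := by
    by_contra hne
    rcases hia.lt_or_eq with h | h
    · have hdvd : t ∣ ℓ ^ i * (ℓ ^ (a - i) - 1) := by
        rw [Nat.mul_sub, ← pow_add, mul_one, Nat.add_sub_cancel' hia]
        exact (Nat.modEq_iff_dvd' (Nat.pow_le_pow_right hl.out.pos hia)).1 hmod.symm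
      rcases ht.out.dvd_mul.1 hdvd with h1 | h1
      · have h2 := (Nat.prime_dvd_prime_iff_eq ht.out hl.out).1 (ht.out.dvd_of_dvd_pow h1)
        subst h2
        have h3 : t ∣ t ^ a := dvd_pow_self t (by omega)
        have h4 : t ^ a - (t ^ a - 1) = 1 := by
          have := Nat.one_le_pow a t ht.out.pos
          omega
        exact ht.out.not_dvd_one (h4 ▸ Nat.dvd_sub h3 hta)
      · exact hprim (a - i) (by omega) (by omega) h1
    · have htop : fixSub φ (Subgroup.zpowers x) = ⊤ :=
        Subgroup.eq_top_of_card_eq _ (by rw [hi, h, ha])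
      refine hx1 (hinj ?_)
      rw [map_one]
      exact MulEquiv.ext fun w => (htop ▸ Subgroup.mem_top w :
        w ∈ fixSub φ (Subgroup.zpowers x)) x (Subgroup.mem_zpowers x)
  have hbot : fixSub φ (Subgroup.zpowers x) = ⊥ :=
    Subgroup.card_eq_one.1 (by rw [hi, hi0, pow_zero])
  have hmem : v ∈ fixSub φ (Subgroup.zpowers x) := by
    rintro y hy
    obtain ⟨k, rfl⟩ := Subgroup.mem_zpowers_iff.1 hy
    have hle : Subgroup.zpowers x ≤ (MulAction.stabilizer (MulAut V) v).comap φ :=
      Subgroup.zpowers_le.2 hv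
    exact hle (Subgroup.zpow_mem_zpowers x k)
  rw [hbot] at hmem
  exact hmem

theorem isCyclic_sylow [hl : Fact ℓ.Prime] (hinj : Function.Injective φ) (ha : Nat.card V = ℓ ^ a)
    (ha3 : 3 ≤ a) {t : ℕ} [ht : Fact t.Prime] (hta : t ∣ ℓ ^ a - 1)
    (hprim : ∀ k, 0 < k → k < a → ¬ t ∣ ℓ ^ k - 1) (T : Sylow t H) :
    IsCyclic (T : Subgroup H) := by
  classical
  have htl : t ≠ ℓ := by
    rintro rfl
    have h3 : t ∣ t ^ a := dvd_pow_self t (by omega)
    have h4 : t ^ a - (t ^ a - 1) = 1 := by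
      have := Nat.one_le_pow a t ht.out.pos
      omega
    exact ht.out.not_dvd_one (h4 ▸ Nat.dvd_sub h3 hta)
  have ht2 : t ≠ 2 := by
    rintro rfl
    refine hprim 1 one_pos (by omega) ?_
    rcases hl.out.eq_two_or_odd with h | h
    · exact absurd h.symm htl
    · rw [pow_one]; omega
  refine IsolatedP.isCyclic_of_pRankLE_one ht2 T.2 fun A hA hexp => ?_
  haveI := hA
  rw [pow_one]
  by_cases hc : IsCyclic A
  · obtain ⟨g, hg⟩ := hc.exists_ofOrder_eq_natCard
    rw [← hg]
    exact Nat.le_of_dvd ht.out.pos (orderOf_dvd_of_pow_eq_one (Subtype.ext (hexp g g.2)))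
  · exfalso
    let _instA : CommGroup A := { (inferInstance : Group A) with mul_comm := fun a b => mul_comm' a b }
    have hcop : (Nat.card A).Coprime (Nat.card V) := by
      rw [ha]
      obtain ⟨k, hk⟩ := IsPGroup.iff_card.1 (T.2.to_subgroup A)
      rw [hk]
      exact Nat.Coprime.pow _ _ ((Nat.coprime_primes ht.out hl.out).2 htl)
    have h := Coprime.eq_top_of_forall_fixedBy_le
      (φ.comp ((T : Subgroup H).subtype.comp A.subtype)) hc hcop (S := (⊥ : Subgroup V))
      fun x hx1 v hv => Subgroup.mem_bot.2 (eq_one_of_fixed hinj ha hta hprim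
        (x := ((x : ↥(T : Subgroup H)) : H))
        (by rw [← SubmonoidClass.coe_pow, hexp x x.2]; rfl)
        (fun h => hx1 (Subtype.ext (Subtype.ext h))) hv)
    exact bot_ne_top h

/-- The primitive prime case. -/
theorem hasDeg_of_primitive [Group.IsSolvable H] [hp : Fact p.Prime] [hq : Fact q.Prime]
    [hl : Fact ℓ.Prime] (hpq : p ≠ q) (hinj : Function.Injective φ) (ha : Nat.card V = ℓ ^ a)
    (ha3 : 3 ≤ a) {t : ℕ} [ht : Fact t.Prime] (hta : t ∣ ℓ ^ a - 1)
    (hprim : ∀ k, 0 < k → k < a → ¬ t ∣ ℓ ^ k - 1)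
    (htp : t ∣ Nat.card (Sylow p H)) (htq : t ∣ Nat.card (Sylow q H)) : HasDeg H (p * q) := by
  classical
  have hpq' : p * q ∣ (pCore t (H ⧸ pPrimeCore t H)).index :=
    ((Nat.coprime_primes hp.out hq.out).2 hpq).mul_dvd_of_dvd_of_dvd (dvd_index_pCore htp)
      (dvd_index_pCore htq)
  set K := pPrimeCore t H with hKdef
  set W := pCore t (H ⧸ K) with hWdef
  have hCW : centralizer (W : Set (H ⧸ K)) ≤ W :=
    PCore.centralizer_pCore_le_of_isSolvable PCore.pPrimeCore_quotient_self_eq_bot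
  haveI hWc : IsCyclic W := by
    obtain ⟨T⟩ : Nonempty (Sylow t H) := inferInstance
    haveI := isCyclic_sylow hinj ha ha3 hta hprim T
    let T' : Sylow t (H ⧸ K) := T.mapSurjective (QuotientGroup.mk'_surjective K)
    haveI : IsCyclic (T' : Subgroup (H ⧸ K)) :=
      isCyclic_of_surjective ((QuotientGroup.mk' K).subgroupMap (T : Subgroup H))
        (MonoidHom.subgroupMap_surjective _ _)
    exact isCyclic_of_injective (Subgroup.inclusion (PCore.pCore_le_sylow T'))
      (Subgroup.inclusion_injective _)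
  obtain ⟨e⟩ : Nonempty (↥W ≃* rootsOfUnity (Nat.card W) ℂ) := by
    haveI : NeZero (Nat.card W) := ⟨Nat.card_pos.ne'⟩
    exact ⟨mulEquivOfCyclicCardEq (by
      rw [HasEnoughRootsOfUnity.natCard_rootsOfUnity ℂ (Nat.card W)])⟩
  let f : ↥W →* ℂˣ := (rootsOfUnity (Nat.card W) ℂ).subtype.comp e.toMonoidHom
  have hf : Function.Injective f := Subtype.val_injective.comp e.injective
  have hI : inertia W (linC f).1 = W := by
    refine le_antisymm (fun g hg => hCW ?_) (irr_le_inertia W (linC f))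
    rw [mem_inertia_linC, conjDual_eq_self_iff] at hg
    refine Subgroup.mem_centralizer_iff.2 fun w hw => ?_
    have := congrArg Subtype.val (hf (hg ⟨w, hw⟩))
    rw [MulAut.conjNormal_apply] at this
    exact (eq_mul_inv_iff_mul_eq.1 this.symm)
  obtain ⟨χ, hχ⟩ := exists_index_inertia_dvd W (linC f)
  rw [hI, degree_linC, mul_one] at hχ
  exact HasDeg.of_quotient K ⟨χ, hpq'.trans hχ⟩

/-- The automorphism group of an elementary abelian group of order `64`. -/
theorem card_mulAut_dvd (hV : Nat.card V = 64) (he : ∀ v : V, v ^ 2 = 1) :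
    Nat.card (MulAut V) ∣ 20158709760 := by
  classical
  letI : Module (ZMod 2) (Additive V) := AddCommGroup.zmodModule fun x => by
    show Additive.ofMul (x.toMul ^ 2) = 0
    rw [he]; rfl
  haveI : Module.Finite (ZMod 2) (Additive V) := Module.Finite.of_finite
  have hr : Module.finrank (ZMod 2) (Additive V) = 6 := by
    have h := Module.natCard_eq_pow_finrank (K := ZMod 2) (V := Additive V)
    rw [show Nat.card (Additive V) = 2 ^ 6 from (Nat.card_congr Additive.toMul).trans hV,
      Nat.card_zmod] at h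
    exact (Nat.pow_right_injective le_rfl h).symm
  let b := Module.finBasisOfFinrankEq (ZMod 2) (Additive V) hr
  let toLin : MulAut V →* (Additive V →ₗ[ZMod 2] Additive V) :=
    { toFun := fun g => (g.toMonoidHom.toAdditive).toZModLinearMap 2
      map_one' := LinearMap.ext fun _ => rfl
      map_mul' := fun g h => LinearMap.ext fun _ => rfl }
  let toGL : MulAut V →* GL (Fin 6) (ZMod 2) :=
    ((LinearMap.toMatrixAlgEquiv b).toMonoidHom.comp toLin).toHomUnits
  have hinj : Function.Injective toGL := fun g h hgh => by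
    have h1 := (LinearMap.toMatrixAlgEquiv b).injective (congrArg Units.val hgh)
    exact MulEquiv.ext fun x => congrArg Additive.toMul (LinearMap.congr_fun h1 (Additive.ofMul x))
  refine (Subgroup.card_dvd_of_injective toGL hinj).trans (dvd_of_eq ?_)
  rw [Matrix.card_GL_field]
  simp [Fin.prod_univ_six]

theorem false_of_two_six [Group.IsSolvable H] [hp : Fact p.Prime] (hp2 : p ≠ 2)
    (hinj : Function.Injective φ) (ha : Nat.card V = 2 ^ 6) (he : ∀ v : V, v ^ 2 = 1)
    (hg : Good p φ) (hn : ∀ P : Sylow p H, ¬ (P : Subgroup H).Normal) : False := by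
  classical
  haveI : Fact (Nat.Prime 2) := ⟨Nat.prime_two⟩
  haveI h7 : Fact (Nat.Prime 7) := ⟨by norm_num⟩
  obtain ⟨b, hb1, hb6, hb⟩ := exists_count hg hn ha
  have hpn : p ∣ Nat.card (Sylow p H) - 1 :=
    (Nat.modEq_iff_dvd' Nat.card_pos).1 (card_sylow_modEq_one p H).symm
  have h1n := one_lt_card_sylow hn
  have h7n : 7 ∣ Nat.card (Sylow p H) ∧ (p = 5 ∨ p = 31) := by
    have hp3 : 3 ≤ p := by
      have := hp.out.two_le
      omega
    interval_cases b <;> norm_num at hb
    · rw [hb] at hpn ⊢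
      refine ⟨by norm_num, Or.inr ?_⟩
      exact ((Nat.prime_dvd_prime_iff_eq hp.out (by norm_num)).1 ((hp.out.dvd_mul.1
        (show p ∣ 2 * 31 from hpn)).resolve_left fun h => hp2
          ((Nat.prime_dvd_prime_iff_eq hp.out Nat.prime_two).1 h)))
    · have h21 : Nat.card (Sylow p H) = 21 := by omega
      rw [h21] at hpn ⊢
      refine ⟨by norm_num, Or.inl ?_⟩
      exact ((Nat.prime_dvd_prime_iff_eq hp.out (by norm_num)).1 ((hp.out.dvd_mul.1
        (show p ∣ 4 * 5 from hpn)).resolve_left fun h => hp2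
          ((Nat.prime_dvd_prime_iff_eq hp.out Nat.prime_two).1
            (hp.out.dvd_of_dvd_pow (show p ∣ 2 ^ 2 from h)))))
    · have h9 : Nat.card (Sylow p H) = 9 := by omega
      rw [h9] at hpn
      exact absurd ((Nat.prime_dvd_prime_iff_eq hp.out Nat.prime_two).1
        (hp.out.dvd_of_dvd_pow (show p ∣ 2 ^ 3 from hpn))) hp2
    all_goals omega
  obtain ⟨h7n, hp5⟩ := h7n
  have hidx := dvd_index_pCore (t := 7) h7n
  set K := pPrimeCore 7 H with hKdef
  set W := pCore 7 (H ⧸ K) with hWdef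
  have hCW : centralizer (W : Set (H ⧸ K)) ≤ W :=
    PCore.centralizer_pCore_le_of_isSolvable PCore.pPrimeCore_quotient_self_eq_bot
  obtain ⟨k, hk⟩ := PCore.exists_card_pCore (p := 7) (G := H ⧸ K)
  have hk2 : k ≤ 2 := by
    by_contra hc
    have h1 : Nat.card W ∣ 20158709760 :=
      ((Subgroup.card_subgroup_dvd_card W).trans (Subgroup.card_quotient_dvd_card K)).trans
        ((Subgroup.card_dvd_of_injective φ hinj).trans (card_mulAut_dvd ha he))
    rw [hk] at h1
    have h2 := (pow_dvd_pow 7 (show 3 ≤ k by omega)).trans h1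
    norm_num at h2
  obtain ⟨X⟩ : Nonempty (Sylow p (H ⧸ K)) := inferInstance
  have hXne : (X : Subgroup (H ⧸ K)) ≠ ⊥ :=
    X.ne_bot_of_dvd_card (hidx.trans (Subgroup.index_dvd_card _))
  letI : MulAction (X : Subgroup (H ⧸ K)) W :=
    MulAction.compHom W ((MulAut.conjNormal (H := W)).comp (X : Subgroup (H ⧸ K)).subtype)
  have hmod := X.2.card_modEq_card_fixedPoints W
  let C : Subgroup W :=
    fixSub ((MulAut.conjNormal (H := W)).comp (X : Subgroup (H ⧸ K)).subtype) ⊤
  have hfix : MulAction.fixedPoints (X : Subgroup (H ⧸ K)) W = (C : Set W) := by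
    ext w
    exact ⟨fun h y _ => h y, fun h y => h y (Subgroup.mem_top _)⟩
  rw [hfix, SetLike.coe_sort_coe, hk] at hmod
  obtain ⟨i, hik, hi⟩ := (Nat.dvd_prime_pow h7.out).1 (hk ▸ Subgroup.card_subgroup_dvd_card C)
  rw [hi] at hmod
  have hik' : i ≠ k := fun h => by
    have hC : C = ⊤ := Subgroup.eq_top_of_card_eq _ (by rw [hi, h, hk])
    have hXW : (X : Subgroup (H ⧸ K)) ≤ W := fun x hx => hCW (Subgroup.mem_centralizer_iff.2
      fun w hw => by
        have := congrArg Subtype.val ((hC ▸ Subgroup.mem_top (⟨w, hw⟩ : W) :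
          (⟨w, hw⟩ : W) ∈ C) ⟨x, hx⟩ (Subgroup.mem_top _))
        simp only [MonoidHom.comp_apply, Subgroup.coe_subtype, MulAut.conjNormal_apply] at this
        exact (eq_mul_inv_iff_mul_eq.1 this.symm))
    refine hXne (Disjoint.eq_bot_of_le
      (IsPGroup.disjoint_of_ne 7 p ?_ W X PCore.isPGroup_pCore X.2).symm hXW)
    omega
  replace hmod := (Nat.modEq_iff_dvd' (Nat.pow_le_pow_right (by norm_num) hik)).1 hmod.symm
  have hbad : ∀ d, d = 6 ∨ d = 48 ∨ d = 42 → ¬ p ∣ d := by
    rintro d (rfl | rfl | rfl) <;> rcases hp5 with rfl | rfl <;> norm_num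
  interval_cases k <;> interval_cases i <;> norm_num at hmod hik' <;>
    exact hbad _ (by norm_num) hmod

/-- The faithful case. -/
theorem hasDeg_of_injective [Group.IsSolvable H] (hp : p.Prime) (hq : q.Prime) (hl : ℓ.Prime)
    (hpq : p ≠ q) (hinj : Function.Injective φ) (he : ∀ v : V, v ^ ℓ = 1)
    (hgp : Good p φ) (hgq : Good q φ) (hnp : ∀ P : Sylow p H, ¬ (P : Subgroup H).Normal)
    (hnq : ∀ P : Sylow q H, ¬ (P : Subgroup H).Normal) : HasDeg H (p * q) := by
  classical
  haveI := Fact.mk hp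
  haveI := Fact.mk hq
  haveI := Fact.mk hl
  have hVp : IsPGroup ℓ V := fun v => ⟨1, by rw [pow_one]; exact he v⟩
  obtain ⟨a, ha⟩ := IsPGroup.iff_card.1 hVp
  obtain ⟨b, hb1, hba, hb⟩ := exists_count hgp hnp ha
  obtain ⟨c, hc1, hca, hc⟩ := exists_count hgq hnq ha
  by_cases ha2 : a = 2
  · exfalso
    subst ha2
    have key : ∀ {s m : ℕ}, s.Prime → 1 < m → m * (ℓ ^ 1 - 1) = ℓ ^ 2 - 1 → s ∣ m - 1 → s = ℓ := by
      intro s m hs hm h hdvd
      obtain ⟨l, rfl⟩ : ∃ l, ℓ = l + 2 := ⟨ℓ - 2, by have := hl.two_le; omega⟩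
      have h' : m * (l + 1) = (l + 3) * (l + 1) := by
        rw [pow_one, show l + 2 - 1 = l + 1 by omega] at h
        rw [h]
        exact Nat.sub_eq_of_eq_add (by ring)
      rw [Nat.eq_of_mul_eq_mul_right (by omega) h', show l + 3 - 1 = l + 2 by omega] at hdvd
      exact (Nat.prime_dvd_prime_iff_eq hs hl).1 hdvd
    obtain rfl : b = 1 := by omega
    obtain rfl : c = 1 := by omega
    exact hpq ((key hp (one_lt_card_sylow hnp) hb
      ((Nat.modEq_iff_dvd' Nat.card_pos).1 (card_sylow_modEq_one p H).symm)).trans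
      (key hq (one_lt_card_sylow hnq) hc
      ((Nat.modEq_iff_dvd' Nat.card_pos).1 (card_sylow_modEq_one q H).symm)).symm)
  by_cases h26 : ℓ = 2 ∧ a = 6
  · obtain ⟨rfl, rfl⟩ := h26
    exfalso
    by_cases hp2 : p = 2
    · exact false_of_two_six (fun h => hpq (hp2.trans h.symm)) hinj ha he hgq hnq
    · exact false_of_two_six hp2 hinj ha he hgp hnp
  obtain ⟨t, ht, hta, hprim⟩ := Zsigmondy.exists_primitive_prime_divisor ℓ a hl.one_lt (by omega)
    h26 (fun h => ha2 h.1)
  haveI := Fact.mk ht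
  exact hasDeg_of_primitive hpq hinj ha (by omega) hta hprim
    (((ht.dvd_mul).1 (hb ▸ hta)).resolve_right (hprim b hb1 hba))
    (((ht.dvd_mul).1 (hc ▸ hta)).resolve_right (hprim c hc1 hca))

/-- A good module for two primes gives a degree divisible by both. -/
theorem exists_degree_dvd [Group.IsSolvable H] (hp : p.Prime) (hq : q.Prime) (hl : ℓ.Prime)
    (hpq : p ≠ q) (he : ∀ v : V, v ^ ℓ = 1) (hgp : Good p φ) (hgq : Good q φ)
    (hnp : ∀ P : Sylow p H, ¬ (P : Subgroup H).Normal)
    (hnq : ∀ P : Sylow q H, ¬ (P : Subgroup H).Normal) : HasDeg H (p * q) := by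
  have key : ∀ s, s.Prime → Good s φ → (∀ P : Sylow s H, ¬ (P : Subgroup H).Normal) →
      ∀ P : Sylow s (H ⧸ φ.ker), ¬ (P : Subgroup (H ⧸ φ.ker)).Normal := by
    intro s hs hg hn P hP
    haveI := Fact.mk hs
    obtain ⟨P₀, rfl⟩ := Sylow.mapSurjective_surjective (QuotientGroup.mk'_surjective φ.ker) s P
    exact hn P₀ (normal_of_normal_map φ.ker P₀ (hg.ker_le_normalizer P₀) hP)
  haveI := Fact.mk hp
  haveI := Fact.mk hq
  exact HasDeg.of_quotient φ.ker (hasDeg_of_injective hp hq hl hpq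
    (QuotientGroup.kerLift_injective φ) he hgp.kerLift hgq.kerLift (key p hp hgp hnp)
    (key q hq hgq hnq))

end Cfsg.Agent.ThreePrimes
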